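import Mathlib.LinearAlgebra.Matrix.Rank
import Mathlib.Algebra.Polynomial.Roots
import Mathlib.Data.Real.Basic
import Mathlib.LinearAlgebra.FiniteDimensional.Lemmas
import Mathlib.Algebra.Group.Conj

/-!
# Hecke algebras of finite Coxeter-like groups with a real parameter

`Datum W` is a length function on a finite group `W` with respect to a set of involutions.
`T q w` is the matrix, in the standard basis, of left multiplication by `T_w` in the Hecke
algebra of parameter `q`.  The algebra identities hold for every `q` as soon as they are realised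
by a convolution algebra for infinitely many values of `q`.
-/

set_option autoImplicit false
set_option linter.unusedSectionVars false

namespace Cfsg.Agent.Lib.HeckeDeform

open Matrix Finset
open scoped Classical

/-- A length function on `W` with respect to a set `S` of involutions. -/
structure Datum (W : Type*) [Group W] where
  S : Set W
  len : W → ℕ
  len_one : len 1 = 0
  len_inv : ∀ w, len w⁻¹ = len w
  sq_one : ∀ s ∈ S, s * s = 1
  step : ∀ s ∈ S, ∀ w, len (s * w) = len w + 1 ∨ len w = len (s * w) + 1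
  descent : ∀ w, w ≠ 1 → ∃ s ∈ S, len (s * w) + 1 = len w

variable {W : Type*} [Group W] [Fintype W]

namespace Datum

variable (D : Datum W)

omit [Fintype W] in
theorem exists_word (w : W) :
    ∃ l : List W, (∀ s ∈ l, s ∈ D.S) ∧ l.prod = w ∧ l.length = D.len w := by
  suffices h : ∀ k w, D.len w = k →
      ∃ l : List W, (∀ s ∈ l, s ∈ D.S) ∧ l.prod = w ∧ l.length = D.len w from h _ w rfl
  intro k
  induction k using Nat.strong_induction_on with
  | _ k ih =>
    intro w hw
    by_cases h1 : w = 1
    · exact ⟨[], by simp, by simp [h1], by simp [h1, D.len_one]⟩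
    obtain ⟨s, hs, hlen⟩ := D.descent w h1
    obtain ⟨l, hl, hp, hll⟩ := ih (D.len (s * w)) (by omega) (s * w) rfl
    exact ⟨s :: l, List.forall_mem_cons.2 ⟨hs, hl⟩,
      by rw [List.prod_cons, hp, ← mul_assoc, D.sq_one s hs, one_mul],
      by rw [List.length_cons, hll, hlen]⟩

omit [Fintype W] in
theorem len_prod_le : ∀ {l : List W}, (∀ s ∈ l, s ∈ D.S) → D.len l.prod ≤ l.length
  | [], _ => by simp [D.len_one]
  | s :: l, h => by
    have h' := List.forall_mem_cons.1 h
    have := len_prod_le h'.2
    rcases D.step s h'.1 l.prod with e | e <;> simp only [List.prod_cons, List.length_cons] <;> omega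

omit [Fintype W] in
theorem reduced_tail {s : W} {l : List W} (h : ∀ x ∈ s :: l, x ∈ D.S)
    (hlen : (s :: l).length = D.len (s :: l).prod) :
    l.length = D.len l.prod ∧ D.len l.prod < D.len (s * l.prod) := by
  have h' := List.forall_mem_cons.1 h
  have := D.len_prod_le h'.2
  simp only [List.prod_cons, List.length_cons] at hlen
  rcases D.step s h'.1 l.prod with e | e <;> omega

/-- A chosen reduced word. -/
noncomputable def word (w : W) : List W := (D.exists_word w).choose

omit [Fintype W] in
theorem word_mem (w : W) : ∀ s ∈ D.word w, s ∈ D.S := (D.exists_word w).choose_spec.1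

omit [Fintype W] in
theorem word_prod (w : W) : (D.word w).prod = w := (D.exists_word w).choose_spec.2.1

omit [Fintype W] in
theorem word_length (w : W) : (D.word w).length = D.len (D.word w).prod := by
  rw [D.word_prod]; exact (D.exists_word w).choose_spec.2.2

section ring

variable {R : Type*} [CommRing R]

/-- The matrix of left multiplication by `T_s`. -/
noncomputable def L (q : R) (s : W) : Matrix W W R := fun u v =>
  if D.len v < D.len (s * v) then (if u = s * v then 1 else 0)
  else (if u = v then q - 1 else 0) + (if u = s * v then q else 0)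

/-- The matrix of left multiplication by `T_w`. -/
noncomputable def T (q : R) (w : W) : Matrix W W R := ((D.word w).map (D.L q)).prod

theorem L_mulVec_single (q : R) {s v : W} (h : D.len v < D.len (s * v)) :
    D.L q s *ᵥ Pi.single v 1 = Pi.single (s * v) 1 := by
  funext u
  simp [L, h, Pi.single_apply]

theorem prod_L_mulVec (q : R) : ∀ {l : List W}, (∀ s ∈ l, s ∈ D.S) → l.length = D.len l.prod →
    (l.map (D.L q)).prod *ᵥ Pi.single (1 : W) 1 = Pi.single l.prod 1
  | [], _, _ => by rw [List.map_nil, List.prod_nil, one_mulVec, List.prod_nil]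
  | s :: l, h, hlen => by
    obtain ⟨h1, h2⟩ := D.reduced_tail h hlen
    rw [List.map_cons, List.prod_cons, ← mulVec_mulVec,
      prod_L_mulVec q (List.forall_mem_cons.1 h).2 h1, D.L_mulVec_single q h2, List.prod_cons]

theorem T_mulVec_one (q : R) (w : W) : D.T q w *ᵥ Pi.single (1 : W) 1 = Pi.single w 1 := by
  rw [T, D.prod_L_mulVec q (D.word_mem w) (D.word_length w), D.word_prod]

theorem T_apply_one (q : R) (w u : W) : D.T q w u 1 = if u = w then 1 else 0 := by
  have := congrFun (D.T_mulVec_one q w) u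
  simpa [Pi.single_apply] using this

theorem T_one (q : R) : D.T q 1 = 1 := by
  have h : D.word 1 = [] := by
    rw [← List.length_eq_zero_iff, D.word_length, D.word_prod, D.len_one]
  simp [T, h]

theorem T_map {R' : Type*} [CommRing R'] (f : R →+* R') (q : R) (w : W) :
    D.T (f q) w = (D.T q w).map f := by
  have hL : ∀ s, D.L (f q) s = f.mapMatrix (D.L q s) := by
    intro s
    funext u v
    simp only [RingHom.mapMatrix_apply, Matrix.map_apply, L]
    split_ifs <;> simp
  have : (D.T q w).map f = f.mapMatrix (D.T q w) := rfl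
  rw [this, T, T, map_list_prod, List.map_map]
  congr 1
  exact List.map_congr_left fun s _ => hL s

end ring

/-- A realisation of the Hecke algebra with parameter `q` by matrices of orbitals. -/
structure Realisation (q : ℝ) (X : Type*) [Fintype X] [DecidableEq X] where
  nonempty : Nonempty X
  A : W → Matrix X X ℝ
  A_one : A 1 = 1
  mul_of_lt : ∀ s ∈ D.S, ∀ w, D.len w < D.len (s * w) → A s * A w = A (s * w)
  sq : ∀ s ∈ D.S, A s * A s = (q - 1) • A s + q • (1 : Matrix X X ℝ)
  transpose : ∀ w, (A w)ᵀ = A w⁻¹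
  orth : ∀ v w, v ≠ w → trace ((A v)ᵀ * A w) = 0

namespace Realisation

variable {D} {q : ℝ} {X : Type*} [Fintype X] [DecidableEq X] (ρ : D.Realisation q X)
include ρ

/-- The linear map `x ↦ ∑ x_w A_w`. -/
def comb : (W → ℝ) →ₗ[ℝ] Matrix X X ℝ where
  toFun x := ∑ w, x w • ρ.A w
  map_add' x y := by simp [add_smul, Finset.sum_add_distrib]
  map_smul' c x := by simp [smul_smul, Finset.smul_sum]

theorem comb_single (w : W) : ρ.comb (Pi.single w 1) = ρ.A w := by
  show ∑ v, (Pi.single w 1 : W → ℝ) v • ρ.A v = ρ.A w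
  simp [Pi.single_apply, ite_smul]

theorem As_mul_A {s : W} (hs : s ∈ D.S) (v : W) :
    ρ.A s * ρ.A v = ρ.comb (D.L q s *ᵥ Pi.single v 1) := by
  by_cases h : D.len v < D.len (s * v)
  · rw [D.L_mulVec_single q h, ρ.comb_single, ρ.mul_of_lt s hs v h]
  · have hlt : D.len (s * v) < D.len (s * (s * v)) := by
      rw [← mul_assoc, D.sq_one s hs, one_mul]
      rcases D.step s hs v with e | e <;> omega
    have e : ρ.A v = ρ.A s * ρ.A (s * v) := by
      rw [ρ.mul_of_lt s hs _ hlt, ← mul_assoc s, D.sq_one s hs, one_mul]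
    have hcol : D.L q s *ᵥ Pi.single v 1 =
        (q - 1) • Pi.single v 1 + q • Pi.single (s * v) (1 : ℝ) := by
      funext u
      simp [L, h, Pi.single_apply]
    rw [hcol, map_add, map_smul, map_smul, ρ.comb_single, ρ.comb_single]
    conv_lhs => rw [e, ← Matrix.mul_assoc, ρ.sq s hs, add_mul, Matrix.smul_mul, ← e,
      Matrix.smul_mul, Matrix.one_mul]

theorem As_mul_comb {s : W} (hs : s ∈ D.S) (x : W → ℝ) :
    ρ.A s * ρ.comb x = ρ.comb (D.L q s *ᵥ x) := by
  have : (LinearMap.mulLeft ℝ (ρ.A s)).comp ρ.comb = ρ.comb.comp (D.L q s).mulVecLin := by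
    refine (Pi.basisFun ℝ W).ext fun v => ?_
    simp only [LinearMap.comp_apply, LinearMap.mulLeft_apply, Pi.basisFun_apply, mulVecLin_apply]
    rw [ρ.comb_single, ρ.As_mul_A hs]
  exact LinearMap.congr_fun this x

theorem prod_mul_comb : ∀ {l : List W}, (∀ s ∈ l, s ∈ D.S) → ∀ x : W → ℝ,
    (l.map ρ.A).prod * ρ.comb x = ρ.comb ((l.map (D.L q)).prod *ᵥ x)
  | [], _, x => by simp
  | s :: l, h, x => by
    rw [List.map_cons, List.prod_cons, List.map_cons, List.prod_cons, Matrix.mul_assoc,
      prod_mul_comb (List.forall_mem_cons.1 h).2, ρ.As_mul_comb (List.forall_mem_cons.1 h).1,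
      mulVec_mulVec]

theorem prod_word (w : W) : ((D.word w).map ρ.A).prod = ρ.A w := by
  have h := ρ.prod_mul_comb (D.word_mem w) (Pi.single 1 1)
  rw [ρ.comb_single, ρ.A_one, Matrix.mul_one, ← T, D.T_mulVec_one, ρ.comb_single] at h
  exact h

theorem A_mul_comb (w : W) (x : W → ℝ) : ρ.A w * ρ.comb x = ρ.comb (D.T q w *ᵥ x) := by
  rw [← ρ.prod_word w, ρ.prod_mul_comb (D.word_mem w), T]

theorem A_mul_A (w v : W) : ρ.A w * ρ.A v = ρ.comb (D.T q w *ᵥ Pi.single v 1) := by
  rw [← ρ.comb_single v, ρ.A_mul_comb]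

theorem trace_sq (w : W) :
    trace ((ρ.A w)ᵀ * ρ.A w) = q ^ D.len w * Fintype.card X := by
  suffices h : ∀ l : List W, (∀ s ∈ l, s ∈ D.S) → l.length = D.len l.prod →
      trace ((ρ.A l.prod)ᵀ * ρ.A l.prod) = q ^ l.length * Fintype.card X by
    have := h _ (D.word_mem w) (D.word_length w)
    rwa [D.word_prod, D.word_length, D.word_prod] at this
  intro l
  induction l with
  | nil => intro _ _; simp [ρ.A_one, trace_one]
  | cons s l ih =>
    intro h hlen
    obtain ⟨h1, h2⟩ := D.reduced_tail h hlen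
    have hs : s ∈ D.S := (List.forall_mem_cons.1 h).1
    rw [List.prod_cons, List.length_cons]
    have e := ρ.mul_of_lt s hs _ h2
    have hsT : (ρ.A s)ᵀ = ρ.A s := by
      rw [ρ.transpose, inv_eq_of_mul_eq_one_right (D.sq_one s hs)]
    have hne : l.prod ≠ s * l.prod := fun h' => by rw [← h'] at h2; exact lt_irrefl _ h2
    conv_lhs => rw [← e, transpose_mul, hsT, Matrix.mul_assoc, ← Matrix.mul_assoc (ρ.A s),
      ρ.sq s hs, add_mul, Matrix.smul_mul, Matrix.smul_mul, Matrix.one_mul, e, mul_add,
      Matrix.mul_smul, Matrix.mul_smul, trace_add, trace_smul, trace_smul,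
      ρ.orth _ _ hne, ih (List.forall_mem_cons.1 h).2 h1]
    simp only [smul_eq_mul, mul_zero, zero_add]
    ring

theorem card_pos : (0 : ℝ) < Fintype.card X := by
  have := ρ.nonempty
  exact_mod_cast Fintype.card_pos

theorem trace_comb_mul (x : W → ℝ) (v : W) :
    trace ((ρ.A v)ᵀ * ρ.comb x) = x v * (q ^ D.len v * Fintype.card X) := by
  show trace ((ρ.A v)ᵀ * ∑ w, x w • ρ.A w) = _
  rw [Matrix.mul_sum, trace_sum, Finset.sum_eq_single v]
  · rw [Matrix.mul_smul, trace_smul, smul_eq_mul, ρ.trace_sq]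
  · intro w _ hw
    rw [Matrix.mul_smul, trace_smul, ρ.orth v w (Ne.symm hw), smul_zero]
  · simp

theorem comb_injective (hq : 0 < q) : Function.Injective ρ.comb := by
  refine (injective_iff_map_eq_zero _).2 fun x hx => funext fun v => ?_
  have h := ρ.trace_comb_mul x v
  rw [hx, Matrix.mul_zero, trace_zero] at h
  rcases mul_eq_zero.1 h.symm with h' | h'
  · exact h'
  · exact absurd h' (ne_of_gt (mul_pos (pow_pos hq _) ρ.card_pos))

theorem id_assoc (hq : 0 < q) (w v u t : W) :
    (D.T q w * D.T q v) u t = ∑ x, D.T q w x v * D.T q x u t := by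
  have key : D.T q w *ᵥ (D.T q v *ᵥ Pi.single t 1) =
      ∑ x, D.T q w x v • (D.T q x *ᵥ Pi.single t 1) := by
    refine ρ.comb_injective hq ?_
    rw [map_sum]
    simp only [map_smul, ← ρ.A_mul_A]
    rw [← ρ.A_mul_comb, ← ρ.A_mul_A, ← Matrix.mul_assoc, ρ.A_mul_A w v]
    show (∑ x, (D.T q w *ᵥ Pi.single v 1) x • ρ.A x) * ρ.A t = _
    simp [Matrix.sum_mul]
  have := congrFun key u
  rw [mulVec_mulVec] at this
  simpa [Finset.sum_apply, mulVec, dotProduct, Pi.single_apply] using this

theorem id_form (hq : 0 < q) (w v : W) :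
    D.T q w 1 v = if w * v = 1 then q ^ D.len w else 0 := by
  have h : trace ((ρ.A 1)ᵀ * (ρ.A w * ρ.A v)) = D.T q w 1 v * (Fintype.card X : ℝ) := by
    rw [ρ.A_mul_A, ρ.trace_comb_mul, D.len_one]
    simp [mulVec, dotProduct, Pi.single_apply]
  rw [ρ.A_one, transpose_one, Matrix.one_mul] at h
  have h' : trace (ρ.A w * ρ.A v) =
      (if w * v = 1 then q ^ D.len w else 0) * (Fintype.card X : ℝ) := by
    rw [trace_mul_comm]
    have : ρ.A v = (ρ.A v⁻¹)ᵀ := by rw [ρ.transpose, inv_inv]
    rw [this]
    split_ifs with e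
    · rw [← eq_inv_of_mul_eq_one_left e, ρ.trace_sq]
    · rw [ρ.orth _ _ (fun e' => e (by rw [← e', inv_mul_cancel])), zero_mul]
  have hne : (Fintype.card X : ℝ) ≠ 0 := ne_of_gt ρ.card_pos
  exact mul_right_cancel₀ hne (h.symm.trans h')

theorem id_star (hq : 0 < q) (w v x : W) :
    D.T q v⁻¹ x⁻¹ w⁻¹ = D.T q w x v := by
  have key : (fun y => D.T q w y⁻¹ v) = D.T q v⁻¹ *ᵥ Pi.single w⁻¹ 1 := by
    refine ρ.comb_injective hq ?_
    rw [← ρ.A_mul_A, ← ρ.transpose, ← ρ.transpose, ← transpose_mul, ρ.A_mul_A]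
    show ∑ y, D.T q w y⁻¹ v • ρ.A y = (∑ y, (D.T q w *ᵥ Pi.single v 1) y • ρ.A y)ᵀ
    rw [transpose_sum]
    refine (Equiv.sum_comp (Equiv.inv W) _).symm.trans (Finset.sum_congr rfl fun y _ => ?_)
    simp [transpose_smul, ρ.transpose, mulVec, dotProduct, Pi.single_apply]
  have := congrFun key x⁻¹
  simpa [mulVec, dotProduct, Pi.single_apply] using this.symm

end Realisation

/-- The Hecke algebra identities at the parameter `q`. -/
structure Good (q : ℝ) : Prop where
  assoc : ∀ w v u t : W, (D.T q w * D.T q v) u t = ∑ x, D.T q w x v * D.T q x u t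
  form : ∀ w v : W, D.T q w 1 v = if w * v = 1 then q ^ D.len w else 0
  star : ∀ w v x : W, D.T q v⁻¹ x⁻¹ w⁻¹ = D.T q w x v

theorem Realisation.good {D : Datum W} {q : ℝ} {X : Type*} [Fintype X] [DecidableEq X]
    (ρ : D.Realisation q X) (hq : 0 < q) : D.Good q :=
  ⟨ρ.id_assoc hq, ρ.id_form hq, ρ.id_star hq⟩

omit [Fintype W] in
theorem eq_of_eval_eq {f g : Polynomial ℝ} (h : {q : ℝ | f.eval q = g.eval q}.Infinite) (q : ℝ) :
    f.eval q = g.eval q := by
  rw [Polynomial.eq_of_infinite_eval_eq f g h]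

theorem T_eval (q : ℝ) (w u v : W) :
    D.T q w u v = (D.T (Polynomial.X : Polynomial ℝ) w u v).eval q := by
  have := D.T_map (Polynomial.evalRingHom q) Polynomial.X w
  rw [Polynomial.coe_evalRingHom, Polynomial.eval_X] at this
  rw [this]
  rfl

theorem good_of_infinite (h : {q : ℝ | D.Good q}.Infinite) (q : ℝ) : D.Good q := by
  constructor
  · intro w v u t
    have := eq_of_eval_eq
      (f := (D.T (Polynomial.X : Polynomial ℝ) w * D.T (Polynomial.X : Polynomial ℝ) v : Matrix W W (Polynomial ℝ)) u t)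
      (g := ∑ x, D.T (Polynomial.X : Polynomial ℝ) w x v * D.T Polynomial.X x u t)
      (h.mono fun r hr => by
        have := hr.assoc w v u t
        simp only [Matrix.mul_apply, D.T_eval r] at this
        simpa [Matrix.mul_apply, Polynomial.eval_finsetSum] using this) q
    simpa [Matrix.mul_apply, Polynomial.eval_finsetSum, D.T_eval q] using this
  · intro w v
    have := eq_of_eval_eq (f := D.T (Polynomial.X : Polynomial ℝ) w 1 v)
      (g := if w * v = 1 then Polynomial.X ^ D.len w else 0)
      (h.mono fun r hr => by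
        have := hr.form w v
        rw [D.T_eval r] at this
        split_ifs at this ⊢ <;> simpa using this) q
    rw [D.T_eval q]
    split_ifs at this ⊢ <;> simpa using this
  · intro w v x
    have := eq_of_eval_eq (f := D.T (Polynomial.X : Polynomial ℝ) v⁻¹ x⁻¹ w⁻¹)
      (g := D.T (Polynomial.X : Polynomial ℝ) w x v)
      (h.mono fun r hr => by
        have := hr.star w v x
        rwa [D.T_eval r, D.T_eval r] at this) q
    rwa [← D.T_eval q, ← D.T_eval q] at this

end Datum

end Cfsg.Agent.Lib.HeckeDeform
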