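import Cfsg.Agent.Lib.HeckeDeform.Algebra

/-!
# The centre of a Hecke algebra has dimension independent of the positive parameter

The centre is the kernel of the commutator matrix `Psi q` and also, for `q > 0`, the range of
the averaging matrix `Phi q`.  Both ranks are lower semicontinuous, so they are constant.
-/

set_option autoImplicit false
set_option linter.unusedSectionVars false

namespace Cfsg.Agent.Lib.HeckeDeform.Datum

open Matrix Finset Module
open scoped Classical

variable {W : Type*} [Group W] [Fintype W] (D : Datum W)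

section ring

variable {R : Type*} [CommRing R]

/-- An exponent above every length. -/
def bound : ℕ := Finset.univ.sup D.len

/-- The weight `q ^ (N - l(w))`. -/
def wt (q : R) (w : W) : R := q ^ (D.bound - D.len w)

/-- The averaging matrix `x ↦ ∑ q^(N - l(w)) T_w x T_{w⁻¹}`. -/
noncomputable def Phi (q : R) : Matrix W W R :=
  fun u y => ∑ w, D.wt q w * (D.T q w * D.T q y * D.T q w⁻¹) u 1

/-- The commutator matrix `x ↦ (x T_v - T_v x)_v`. -/
noncomputable def Psi (q : R) : Matrix (W × W) W R :=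
  fun vu x => D.T q x vu.2 vu.1 - D.T q vu.1 vu.2 x

theorem Phi_map {R' : Type*} [CommRing R'] (f : R →+* R') (q : R) :
    D.Phi (f q) = (D.Phi q).map f := by
  funext u y
  simp only [Phi, Matrix.map_apply, map_sum, map_mul, D.T_map f]
  refine Finset.sum_congr rfl fun w _ => ?_
  rw [← Matrix.map_mul, ← Matrix.map_mul, Matrix.map_apply]
  simp [wt]

theorem Psi_map {R' : Type*} [CommRing R'] (f : R →+* R') (q : R) :
    D.Psi (f q) = (D.Psi q).map f := by
  funext u y
  simp [Psi, Matrix.map_apply, D.T_map f]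

end ring

/-- `∑ x_w T_w`. -/
noncomputable def M (q : ℝ) : (W → ℝ) →ₗ[ℝ] Matrix W W ℝ where
  toFun x := ∑ w, x w • D.T q w
  map_add' x y := by simp [add_smul, Finset.sum_add_distrib]
  map_smul' c x := by simp [smul_smul, Finset.smul_sum]

/-- The anti-involution `T_w ↦ T_{w⁻¹}` on coordinates. -/
def cstar (x : W → ℝ) : W → ℝ := fun w => x w⁻¹

theorem M_apply_apply (q : ℝ) (x : W → ℝ) (u v : W) :
    D.M q x u v = ∑ w, x w * D.T q w u v := by
  simp [M, Matrix.sum_apply]

theorem M_single (q : ℝ) (w : W) : D.M q (Pi.single w 1) = D.T q w := by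
  show ∑ v, (Pi.single w 1 : W → ℝ) v • D.T q v = _
  simp [Pi.single_apply, ite_smul]

theorem M_mulVec_one (q : ℝ) (x : W → ℝ) : D.M q x *ᵥ Pi.single 1 1 = x := by
  funext u
  simp [mulVec, dotProduct, Pi.single_apply, D.M_apply_apply, D.T_apply_one]

theorem M_apply_one (q : ℝ) (x : W → ℝ) (u : W) : D.M q x u 1 = x u := by
  simp [D.M_apply_apply, D.T_apply_one]

namespace Good

variable {D} {q : ℝ} (h : D.Good q)
include h

theorem T_mul_T (w v : W) : D.T q w * D.T q v = D.M q (D.T q w *ᵥ Pi.single v 1) := by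
  ext u t
  rw [h.assoc, D.M_apply_apply]
  simp [mulVec, dotProduct, Pi.single_apply]

theorem T_mul_M (w : W) (y : W → ℝ) : D.T q w * D.M q y = D.M q (D.T q w *ᵥ y) := by
  have : (LinearMap.mulLeft ℝ (D.T q w)).comp (D.M q) = (D.M q).comp (D.T q w).mulVecLin := by
    refine (Pi.basisFun ℝ W).ext fun v => ?_
    simp [D.M_single, h.T_mul_T]
  exact LinearMap.congr_fun this y

theorem M_mul_M (x y : W → ℝ) : D.M q x * D.M q y = D.M q (D.M q x *ᵥ y) := by
  show (∑ w, x w • D.T q w) * D.M q y = D.M q ((∑ w, x w • D.T q w) *ᵥ y)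
  simp only [Matrix.sum_mul, Matrix.smul_mul, Matrix.sum_mulVec, Matrix.smul_mulVec, map_sum,
    map_smul, h.T_mul_M]

theorem tau_mul (x y : W → ℝ) :
    (D.M q x * D.M q y) 1 1 = ∑ v, x v⁻¹ * y v * q ^ D.len v := by
  have hM : ∀ v, D.M q x 1 v = x v⁻¹ * q ^ D.len v := by
    intro v
    rw [D.M_apply_apply, Finset.sum_eq_single v⁻¹]
    · rw [h.form, inv_mul_cancel, if_pos rfl, D.len_inv]
    · intro w _ hw
      rw [h.form, if_neg (fun e => hw (eq_inv_of_mul_eq_one_left e)), mul_zero]
    · simp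
  rw [h.M_mul_M, D.M_apply_one]
  exact Finset.sum_congr rfl fun v _ => by
    show D.M q x 1 v * y v = _
    rw [hM]; ring

theorem tau_star_mul_self (x : W → ℝ) :
    (D.M q (cstar x) * D.M q x) 1 1 = ∑ v, x v ^ 2 * q ^ D.len v := by
  rw [h.tau_mul]
  exact Finset.sum_congr rfl fun v _ => by simp [cstar, sq]

theorem star_mulVec (x y : W → ℝ) :
    cstar (D.M q x *ᵥ y) = D.M q (cstar y) *ᵥ cstar x := by
  funext t
  simp only [cstar, mulVec, dotProduct, D.M_apply_apply, Finset.sum_mul]
  rw [Finset.sum_comm]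
  conv_rhs => rw [Finset.sum_comm]
  conv_rhs => rw [← Equiv.sum_comp (Equiv.inv W)]
  rw [Finset.sum_comm]
  refine Finset.sum_congr rfl fun v _ => ?_
  conv_rhs => rw [← Equiv.sum_comp (Equiv.inv W)]
  refine Finset.sum_congr rfl fun w _ => ?_
  simp only [Equiv.inv_apply, inv_inv]
  rw [← h.star v⁻¹ w⁻¹ t, inv_inv, inv_inv]
  ring

theorem scalar_identity (v u w : W) :
    q ^ D.len u * D.T q v u w = q ^ D.len w * D.T q u⁻¹ w⁻¹ v := by
  have e1 : ((D.T q u⁻¹ * D.T q v) * D.T q w) 1 1 = D.T q u⁻¹ w⁻¹ v * q ^ D.len w := by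
    rw [Matrix.mul_apply, Finset.sum_eq_single w]
    · rw [D.T_apply_one, if_pos rfl, mul_one, h.assoc, Finset.sum_eq_single w⁻¹]
      · rw [h.form, inv_mul_cancel, if_pos rfl, D.len_inv]
      · intro x _ hx
        rw [h.form, if_neg (fun e => hx (eq_inv_of_mul_eq_one_left e)), mul_zero]
      · simp
    · intro x _ hx
      rw [D.T_apply_one, if_neg hx, mul_zero]
    · simp
  have e2 : (D.T q u⁻¹ * (D.T q v * D.T q w)) 1 1 = q ^ D.len u * D.T q v u w := by
    rw [Matrix.mul_apply, Finset.sum_eq_single u]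
    · rw [h.form, inv_mul_cancel, if_pos rfl, D.len_inv, h.T_mul_T, D.M_apply_one]
      simp [mulVec, dotProduct, Pi.single_apply]
    · intro x _ hx
      rw [h.form, if_neg (fun e => hx (inv_inv u ▸ eq_inv_of_mul_eq_one_right e)), zero_mul]
    · simp
  rw [Matrix.mul_assoc] at e1
  rw [← e2, e1]; ring

omit h in
theorem le_bound (w : W) : D.len w ≤ D.bound := Finset.le_sup (Finset.mem_univ w)

omit h in
/-- The averaging operator on the algebra. -/
noncomputable def avgOp (D : Datum W) (q : ℝ) (m : Matrix W W ℝ) : Matrix W W ℝ :=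
  ∑ w, D.wt q w • (D.T q w * m * D.T q w⁻¹)

theorem avgOp_M (y : W → ℝ) : avgOp D q (D.M q y) = D.M q (D.Phi q *ᵥ y) := by
  have hin : ∀ w v, D.T q w * D.T q v * D.T q w⁻¹ =
      D.M q ((D.T q w * D.T q v * D.T q w⁻¹) *ᵥ Pi.single 1 1) := by
    intro w v
    have key : D.T q w * D.T q v * D.T q w⁻¹ =
        D.M q (D.T q w *ᵥ (D.T q v *ᵥ Pi.single w⁻¹ 1)) := by
      rw [Matrix.mul_assoc, h.T_mul_T, h.T_mul_M]
    conv_rhs => rw [key, D.M_mulVec_one]
    exact key
  have hlin : avgOp D q (D.M q y) = ∑ v, y v • avgOp D q (D.T q v) := by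
    show avgOp D q (∑ v, y v • D.T q v) = _
    simp only [avgOp, Matrix.mul_sum, Matrix.sum_mul, Matrix.mul_smul, Matrix.smul_mul,
      Finset.smul_sum, smul_smul]
    rw [Finset.sum_comm]
    simp only [mul_comm]
  have hv : ∀ v, avgOp D q (D.T q v) = D.M q (D.Phi q *ᵥ Pi.single v 1) := by
    intro v
    have : avgOp D q (D.T q v) = D.M q (∑ w, D.wt q w •
        ((D.T q w * D.T q v * D.T q w⁻¹) *ᵥ Pi.single 1 1)) := by
      simp only [map_sum, map_smul, ← hin]
      rfl
    rw [this]
    congr 1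
    funext u
    simp [Phi, mulVec, dotProduct, Pi.single_apply, Finset.sum_apply]
  rw [hlin]
  simp only [hv, ← map_smul, ← Matrix.mulVec_smul, ← map_sum, ← Matrix.mulVec_sum]
  congr 2
  funext u
  simp [Finset.sum_apply, Pi.single_apply]

variable (hq : 0 < q)
include hq

theorem avgOp_comm (v : W) (m : Matrix W W ℝ) :
    D.T q v * avgOp D q m = avgOp D q m * D.T q v := by
  have hscal : ∀ u w, D.wt q w * D.T q v u w = D.wt q u * D.T q u⁻¹ w⁻¹ v := by
    intro u w
    refine mul_left_cancel₀ (mul_ne_zero (pow_ne_zero (D.len u) hq.ne')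
      (pow_ne_zero (D.len w) hq.ne')) ?_
    have hw : q ^ D.len w * D.wt q w = q ^ D.bound := by
      rw [wt, ← pow_add, Nat.add_sub_cancel' (le_bound w)]
    have hu : q ^ D.len u * D.wt q u = q ^ D.bound := by
      rw [wt, ← pow_add, Nat.add_sub_cancel' (le_bound u)]
    calc q ^ D.len u * q ^ D.len w * (D.wt q w * D.T q v u w)
        = (q ^ D.len w * D.wt q w) * (q ^ D.len u * D.T q v u w) := by ring
      _ = (q ^ D.len u * D.wt q u) * (q ^ D.len w * D.T q u⁻¹ w⁻¹ v) := by
          rw [hw, hu, h.scalar_identity]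
      _ = _ := by ring
  have lhs : D.T q v * avgOp D q m = ∑ u, ∑ w,
      (D.wt q w * D.T q v u w) • (D.T q u * m * D.T q w⁻¹) := by
    rw [avgOp, Matrix.mul_sum, Finset.sum_comm]
    refine Finset.sum_congr rfl fun w _ => ?_
    rw [Matrix.mul_smul, ← Matrix.mul_assoc, ← Matrix.mul_assoc, h.T_mul_T]
    show D.wt q w • ((∑ u, (D.T q v *ᵥ Pi.single w 1) u • D.T q u) * m * D.T q w⁻¹) = _
    simp [Matrix.sum_mul, Finset.smul_sum, smul_smul]
  have rhs : avgOp D q m * D.T q v = ∑ u, ∑ w,
      (D.wt q u * D.T q u⁻¹ w⁻¹ v) • (D.T q u * m * D.T q w⁻¹) := by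
    rw [avgOp, Matrix.sum_mul]
    refine Finset.sum_congr rfl fun u _ => ?_
    rw [Matrix.smul_mul, Matrix.mul_assoc (D.T q u * m), h.T_mul_T]
    show D.wt q u • (D.T q u * m * ∑ w, (D.T q u⁻¹ *ᵥ Pi.single v 1) w • D.T q w) = _
    rw [← Equiv.sum_comp (Equiv.inv W)]
    simp [Matrix.mul_sum, Finset.smul_sum, smul_smul]
  rw [lhs, rhs]
  exact Finset.sum_congr rfl fun u _ => Finset.sum_congr rfl fun w _ => by rw [hscal]

omit hq in
theorem mem_ker_Psi_iff (x : W → ℝ) :
    x ∈ LinearMap.ker (D.Psi q).mulVecLin ↔ ∀ v, D.M q x * D.T q v = D.T q v * D.M q x := by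
  have hent : ∀ v u, (D.Psi q *ᵥ x) (v, u) =
      (D.M q x *ᵥ Pi.single v 1) u - (D.T q v *ᵥ x) u := by
    intro v u
    simp only [mulVec, dotProduct, Psi, sub_mul, Finset.sum_sub_distrib, Pi.single_apply,
      mul_ite, mul_one, mul_zero, Finset.sum_ite_eq', Finset.mem_univ, if_true, D.M_apply_apply]
    simp only [mul_comm]
  have hL : ∀ v, D.M q x * D.T q v = D.M q (D.M q x *ᵥ Pi.single v 1) := by
    intro v; rw [← D.M_single q v, h.M_mul_M]
  simp only [LinearMap.mem_ker, mulVecLin_apply, hL, h.T_mul_M]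
  constructor
  · intro hx v
    congr 1
    funext u
    have := congrFun hx (v, u)
    rw [hent] at this
    simpa [sub_eq_zero] using this
  · intro hx
    funext ⟨v, u⟩
    rw [hent, Pi.zero_apply, sub_eq_zero]
    have := congrArg (fun m => (m *ᵥ Pi.single 1 1) u) (hx v)
    simpa only [D.M_mulVec_one] using this

theorem range_Phi_le : LinearMap.range (D.Phi q).mulVecLin ≤ LinearMap.ker (D.Psi q).mulVecLin := by
  rintro _ ⟨y, rfl⟩
  rw [h.mem_ker_Psi_iff]
  intro v
  rw [mulVecLin_apply, ← h.avgOp_M, h.avgOp_comm hq]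

theorem Phi_injOn {z : W → ℝ} (hz : z ∈ LinearMap.ker (D.Psi q).mulVecLin)
    (h0 : D.Phi q *ᵥ z = 0) : z = 0 := by
  rw [h.mem_ker_Psi_iff] at hz
  have e : ∀ w, D.M q (cstar z) * (D.T q w * D.M q z * D.T q w⁻¹) =
      D.M q (cstar (D.T q w⁻¹ *ᵥ z)) * D.M q (D.T q w⁻¹ *ᵥ z) := by
    intro w
    have hs : D.M q (cstar (D.T q w⁻¹ *ᵥ z)) = D.M q (cstar z) * D.T q w := by
      rw [← D.M_single q w⁻¹, h.star_mulVec, ← h.M_mul_M]
      congr 1
      rw [← D.M_single q w]
      congr 1
      funext u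
      simp [cstar, Pi.single_apply, inv_eq_iff_eq_inv]
    rw [hs, ← h.T_mul_M, Matrix.mul_assoc (D.M q (cstar z)), Matrix.mul_assoc (D.T q w), ← hz,
      ← Matrix.mul_assoc (D.T q w)]
  have key : (0 : ℝ) = ∑ w, D.wt q w * ∑ v, (D.T q w⁻¹ *ᵥ z) v ^ 2 * q ^ D.len v := by
    have h1 : D.M q (cstar z) * avgOp D q (D.M q z) = 0 := by
      rw [h.avgOp_M, h0, map_zero, Matrix.mul_zero]
    have h2 := congrArg (fun m : Matrix W W ℝ => m 1 1) h1
    simp only [avgOp, Matrix.mul_sum, Matrix.mul_smul, e, Matrix.sum_apply, Matrix.smul_apply,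
      smul_eq_mul, h.tau_star_mul_self, Matrix.zero_apply] at h2
    exact h2.symm
  have hpos : ∀ v, 0 < q ^ D.len v := fun v => pow_pos hq _
  have h3 := (Finset.sum_eq_zero_iff_of_nonneg fun w _ => mul_nonneg (pow_nonneg hq.le _)
    (Finset.sum_nonneg fun v _ => mul_nonneg (sq_nonneg _) (hpos v).le)).1 key.symm 1
    (Finset.mem_univ _)
  rw [inv_one, D.T_one, one_mulVec] at h3
  have h4 := (mul_eq_zero.1 h3).resolve_left (pow_ne_zero _ hq.ne')
  funext v
  have h5 := (Finset.sum_eq_zero_iff_of_nonneg fun v _ => mul_nonneg (sq_nonneg _) (hpos v).le).1 h4 v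
    (Finset.mem_univ _)
  exact pow_eq_zero_iff two_ne_zero |>.1 ((mul_eq_zero.1 h5).resolve_right (hpos v).ne')

/-- For `q > 0` the centre is the range of `Phi q`. -/
theorem range_Phi : LinearMap.range (D.Phi q).mulVecLin = LinearMap.ker (D.Psi q).mulVecLin := by
  refine Submodule.eq_of_le_of_finrank_le (h.range_Phi_le hq) ?_
  let f := (D.Phi q).mulVecLin.domRestrict (LinearMap.ker (D.Psi q).mulVecLin)
  have hf : Function.Injective f := (injective_iff_map_eq_zero _).2 fun z hz =>
    Subtype.ext (h.Phi_injOn hq z.2 hz)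
  calc finrank ℝ (LinearMap.ker (D.Psi q).mulVecLin) = finrank ℝ (LinearMap.range f) :=
        (LinearMap.finrank_range_of_inj hf).symm
    _ ≤ _ := Submodule.finrank_mono (by rintro _ ⟨z, rfl⟩; exact ⟨z, rfl⟩)

theorem rank_add : (D.Phi q).rank + (D.Psi q).rank = Fintype.card W := by
  have h1 := LinearMap.finrank_range_add_finrank_ker (D.Psi q).mulVecLin
  rw [Matrix.rank, Matrix.rank, h.range_Phi hq]
  rw [finrank_fintype_fun_eq_card] at h1
  omega

end Good

/-- A polynomial matrix whose rank is at least `r` somewhere has rank at least `r` almost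
everywhere. -/
theorem finite_rank_lt {m n : Type*} [Fintype m] [Fintype n]
    (A : Matrix m n (Polynomial ℝ)) (q₀ : ℝ) :
    {q : ℝ | (A.map (Polynomial.evalRingHom q)).rank < (A.map (Polynomial.evalRingHom q₀)).rank}.Finite := by
  set A₀ := A.map (Polynomial.evalRingHom q₀)
  set r := A₀.rank
  obtain ⟨B, C, hBC⟩ : ∃ (B : Matrix (Fin r) m ℝ) (C : Matrix n (Fin r) ℝ), B * A₀ * C = 1 := by
    let b : Basis (Fin r) ℝ (LinearMap.range A₀.mulVecLin) := Module.finBasis ℝ _
    have hb : ∀ i, ∃ x : n → ℝ, A₀ *ᵥ x = (b i : m → ℝ) := fun i => (b i).2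
    choose x hx using hb
    obtain ⟨g, hg⟩ := LinearMap.exists_extend (b.equivFun.toLinearMap)
    refine ⟨LinearMap.toMatrix' g, Matrix.of fun j i => x i j, ?_⟩
    refine Matrix.ext_iff_mulVec.2 fun v => ?_
    have hC : (Matrix.of fun j i => x i j : Matrix n (Fin r) ℝ) *ᵥ v = ∑ i, v i • x i := by
      funext j; simp [mulVec, dotProduct, Finset.sum_apply, mul_comm]
    rw [← mulVec_mulVec, ← mulVec_mulVec, hC, one_mulVec, Matrix.mulVec_sum]
    simp only [Matrix.mulVec_smul, hx, LinearMap.toMatrix'_mulVec, map_sum, map_smul]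
    have : ∀ i, g (b i : m → ℝ) = Pi.single i 1 := by
      intro i
      have := LinearMap.congr_fun hg (b i)
      simp only [LinearMap.comp_apply, Submodule.subtype_apply] at this
      rw [this]
      funext j
      simp [Pi.single_apply, eq_comm]
    simp only [this]
    funext j
    simp [Finset.sum_apply, Pi.single_apply]
  let P : Polynomial ℝ := ((B.map Polynomial.C) * A * (C.map Polynomial.C)).det
  have hev : ∀ q, P.eval q = (B * A.map (Polynomial.evalRingHom q) * C).det := by
    intro q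
    have := RingHom.map_det (Polynomial.evalRingHom q) ((B.map Polynomial.C) * A * (C.map Polynomial.C))
    simp only [Polynomial.coe_evalRingHom] at this
    rw [this]
    congr 1
    simp only [RingHom.mapMatrix_apply, Matrix.map_mul, Matrix.map_map]
    congr 2 <;> · ext; simp
  have hP : P ≠ 0 := by
    intro h0
    have := hev q₀
    rw [h0, hBC, det_one, Polynomial.eval_zero] at this
    exact zero_ne_one this
  refine (Polynomial.finite_setOfPred_isRoot hP).subset fun q hq => ?_
  by_contra hne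
  refine absurd hq ?_
  rw [Set.mem_ofPred_eq, not_lt]
  have hne' : (B * A.map (Polynomial.evalRingHom q) * C).det ≠ 0 := by rwa [← hev]
  calc r = (B * A.map (Polynomial.evalRingHom q) * C).rank := by
        rw [rank_of_isUnit _ ((isUnit_iff_isUnit_det _).2 hne'.isUnit), Fintype.card_fin]
    _ ≤ (B * A.map (Polynomial.evalRingHom q)).rank := rank_mul_le_left _ _
    _ ≤ _ := rank_mul_le_right _ _

theorem T_one_param (w u v : W) : D.T (1 : ℝ) w u v = if u = w * v then 1 else 0 := by
  suffices h : ∀ l : List W, (∀ s ∈ l, s ∈ D.S) → ∀ u v,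
      ((l.map (D.L (1 : ℝ))).prod) u v = if u = l.prod * v then 1 else 0 by
    have := h _ (D.word_mem w) u v
    rwa [D.word_prod] at this
  intro l
  induction l with
  | nil => intro _ u v; simp [Matrix.one_apply]
  | cons s l ih =>
    intro h u v
    rw [List.map_cons, List.prod_cons, Matrix.mul_apply, List.prod_cons, mul_assoc]
    have hL : ∀ x, D.L (1 : ℝ) s u x = if u = s * x then 1 else 0 := by
      intro x; simp [L]
    simp [hL, ih (List.forall_mem_cons.1 h).2]

theorem finrank_ker_Psi_one :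
    finrank ℝ (LinearMap.ker (D.Psi (1 : ℝ)).mulVecLin) = Nat.card (ConjClasses W) := by
  have hent : ∀ (x : W → ℝ) v u, (D.Psi (1 : ℝ) *ᵥ x) (v, u) = x (u * v⁻¹) - x (v⁻¹ * u) := by
    intro x v u
    simp only [mulVec, dotProduct, Psi, sub_mul, Finset.sum_sub_distrib, D.T_one_param, ite_mul,
      one_mul, zero_mul]
    congr 1
    · rw [Finset.sum_eq_single (u * v⁻¹) (fun w _ hw => if_neg fun e => hw (by rw [e]; group))
        (by simp), if_pos (by group)]
    · rw [Finset.sum_eq_single (v⁻¹ * u) (fun w _ hw => if_neg fun e => hw (by rw [e]; group))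
        (by simp), if_pos (by group)]
  let F : (ConjClasses W → ℝ) →ₗ[ℝ] (W → ℝ) := LinearMap.funLeft ℝ ℝ ConjClasses.mk
  have hF : Function.Injective F :=
    LinearMap.funLeft_injective_of_surjective ℝ ℝ _ ConjClasses.mk_surjective
  have hr : LinearMap.range F = LinearMap.ker (D.Psi (1 : ℝ)).mulVecLin := by
    apply le_antisymm
    · rintro _ ⟨f, rfl⟩
      funext ⟨v, u⟩
      rw [mulVecLin_apply, hent, Pi.zero_apply, sub_eq_zero]
      show f _ = f _
      congr 1
      exact ConjClasses.mk_eq_mk_iff_isConj.2 (isConj_iff.2 ⟨v⁻¹, by group⟩)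
    · intro x hx
      have hc : ∀ a b : W, IsConj a b → x a = x b := by
        intro a b hab
        obtain ⟨c, rfl⟩ := isConj_iff.1 hab
        have := congrFun hx (c, c * a)
        rw [mulVecLin_apply, hent, Pi.zero_apply, sub_eq_zero] at this
        rw [this, inv_mul_cancel_left]
      refine ⟨fun C => x C.out, funext fun a => hc _ _ ?_⟩
      exact ConjClasses.mk_eq_mk_iff_isConj.1 (Quotient.out_eq _)
  have : Finite (ConjClasses W) := Finite.of_surjective _ ConjClasses.mk_surjective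
  have : Fintype (ConjClasses W) := Fintype.ofFinite _
  rw [← hr, LinearMap.finrank_range_of_inj hF, finrank_fintype_fun_eq_card,
    Nat.card_eq_fintype_card]

/-- The dimension of the centre, the rank of `Phi q`, is the number of classes of `W`. -/
theorem rank_Phi (hgood : {q : ℝ | D.Good q}.Infinite) {q : ℝ} (hq : 0 < q) :
    (D.Phi q).rank = Nat.card (ConjClasses W) := by
  have hg := D.good_of_infinite hgood
  have heval : ∀ r : ℝ, (D.Phi (Polynomial.X : Polynomial ℝ)).map (Polynomial.evalRingHom r) = D.Phi r ∧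
      (D.Psi (Polynomial.X : Polynomial ℝ)).map (Polynomial.evalRingHom r) = D.Psi r := by
    intro r
    constructor
    · rw [← D.Phi_map, Polynomial.coe_evalRingHom, Polynomial.eval_X]
    · rw [← D.Psi_map, Polynomial.coe_evalRingHom, Polynomial.eval_X]
  have h1 := finite_rank_lt (D.Phi (Polynomial.X : Polynomial ℝ)) q
  have h2 := finite_rank_lt (D.Phi (Polynomial.X : Polynomial ℝ)) 1
  have h3 := finite_rank_lt (D.Psi (Polynomial.X : Polynomial ℝ)) q
  have h4 := finite_rank_lt (D.Psi (Polynomial.X : Polynomial ℝ)) 1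
  obtain ⟨r, hr, hr'⟩ :=
    ((Set.Ioi_infinite (0 : ℝ)).sdiff ((h1.union h2).union (h3.union h4))).nonempty
  simp only [Set.mem_union, Set.mem_ofPred_eq, not_or, not_lt, (heval _).1, (heval _).2] at hr'
  obtain ⟨⟨a1, a2⟩, a3, a4⟩ := hr'
  have e0 := (hg r).rank_add hr
  have e1 := (hg q).rank_add hq
  have e2 := (hg 1).rank_add one_pos
  have e3 : (D.Phi (1 : ℝ)).rank = Nat.card (ConjClasses W) := by
    rw [Matrix.rank, (hg 1).range_Phi one_pos, D.finrank_ker_Psi_one]
  omega

end Cfsg.Agent.Lib.HeckeDeform.Datum
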