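import Cfsg.Agent.Lib.HeckeDeform.Constituents
import Cfsg.Agent.Lib.ChevStructure.CoxeterIso
import Cfsg.Agent.Lib.FeitHigman.Cells

/-!
# The constituents of `1_B^G` for the Chevalley groups
-/

set_option autoImplicit false
set_option linter.unusedSectionVars false

namespace Cfsg.Agent.Lib.HeckeDeform.Chevalley

open Cfsg.Lie Cfsg.Agent.Lib.ChevStructure Cfsg.Agent.Lib.BNPair.Basic
open Cfsg.Agent.Lib.FeitHigman.Cells Matrix
open scoped Classical MatrixGroups

variable {D : ChevalleyDatum} {C : Core D} (H : CommOK C)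

/-- Word length in the Weyl group. -/
noncomputable def wlen (C : Core D) (σ : C.WG) : ℕ :=
  sInf {k | ∃ L : List (Fin D.rank), C.pprod L = σ ∧ L.length = k}

variable (F : Type*) [Field F]

/-- The chosen representative in `N`. -/
noncomputable def lift (C : Core D) (σ : C.WG) : ↥(D.group F) :=
  ⟨C.rep F σ, C.monomial_le_group (C.rep_mem σ)⟩

/-- A fundamental `n_p`. -/
def liftP (C : Core D) (i : Fin D.rank) : ↥(D.group F) := ⟨C.P F i, C.P_mem_group i⟩

include H

theorem lift_mem_N (σ : C.WG) : lift F C σ ∈ (H.bnPair F).N := C.rep_mem σ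

theorem liftP_mem_S (i : Fin D.rank) : liftP F C i ∈ (H.bnPair F).S :=
  ⟨i, i.2, (C.nMat_one i).symm⟩

theorem sameW_acts {n m : ↥(D.group F)} (hn : n ∈ (H.bnPair F).N) (hm : m ∈ (H.bnPair F).N)
    {σ τ : Equiv.Perm (Rt D)} (hσ : C.Acts (n : GL D.Idx F) σ) (hτ : C.Acts (m : GL D.Idx F) τ) :
    SameW (H.bnPair F) n m ↔ σ = τ := by
  have hNm : (n : GL D.Idx F)⁻¹ * m ∈ D.monomialSubgroup F :=
    (D.monomialSubgroup F).mul_mem ((D.monomialSubgroup F).inv_mem hn) hm
  have hact := C.acts_mul F (C.acts_inv F hσ) hτ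
  constructor
  · intro h
    have hd : (n : GL D.Idx F)⁻¹ * m ∈ D.diagonalSubgroup F := by
      rw [← C.borel_inf_monomial]; exact ⟨h, hNm⟩
    exact inv_mul_eq_one.1 (C.acts_unique F hact (C.acts_diagonal hd))
  · rintro rfl
    rw [inv_mul_cancel] at hact
    exact C.diagonal_le_borel (C.mem_diagonal_of_acts_one hNm hact)

theorem liftP_acts (i : Fin D.rank) : C.Acts ((liftP F C i : ↥(D.group F)) : GL D.Idx F) (C.sref i) := by
  simpa [Core.wprod, Core.pprod, liftP] using C.acts_wprod F [i]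

theorem prod_acts : ∀ L : List (Fin D.rank),
    C.Acts (((L.map (liftP F C)).prod : ↥(D.group F)) : GL D.Idx F) (C.pprod L)
  | [] => by simpa [Core.wprod, Core.pprod] using C.acts_wprod F []
  | i :: L => by
    rw [List.map_cons, List.prod_cons, Subgroup.coe_mul, C.pprod_cons]
    exact C.acts_mul F (liftP_acts H F i) (prod_acts L)

theorem len_lift (σ : C.WG) : len (H.bnPair F) (lift F C σ) = wlen C σ := by
  have hmemS : ∀ L : List (Fin D.rank), ∀ x ∈ L.map (liftP F C), x ∈ (H.bnPair F).S := by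
    intro L x hx
    obtain ⟨i, -, rfl⟩ := List.mem_map.1 hx
    exact liftP_mem_S H F i
  unfold len wlen
  congr 1
  ext k
  constructor
  · rintro ⟨l, ⟨hl, hw⟩, rfl⟩
    have hex : ∀ x ∈ l, ∃ i, x = liftP F C i := fun x hx => by
      obtain ⟨i, hi⟩ := C.S_eq (hl x hx)
      exact ⟨i, Subtype.ext hi⟩
    obtain ⟨L, rfl⟩ : ∃ L : List (Fin D.rank), L.map (liftP F C) = l := by
      clear hw hl
      induction l with
      | nil => exact ⟨[], rfl⟩
      | cons a l ih =>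
        obtain ⟨i, hi⟩ := hex a (List.mem_cons_self ..)
        obtain ⟨L, hL⟩ := ih fun x hx => hex x (List.mem_cons_of_mem _ hx)
        exact ⟨i :: L, by rw [List.map_cons, hL, hi]⟩
    refine ⟨L, ?_, (List.length_map ..).symm⟩
    exact (sameW_acts H F (prod_mem_N (hmemS L)) (lift_mem_N H F σ) (prod_acts H F L)
      (C.acts_rep F σ)).1 hw
  · rintro ⟨L, hL, rfl⟩
    refine ⟨L.map (liftP F C), ⟨hmemS L, ?_⟩, List.length_map ..⟩
    exact (sameW_acts H F (prod_mem_N (hmemS L)) (lift_mem_N H F σ) (prod_acts H F L)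
      (C.acts_rep F σ)).2 hL

theorem sameW_lift {n : ↥(D.group F)} (hn : n ∈ (H.bnPair F).N) {σ : C.WG}
    (hσ : C.Acts (n : GL D.Idx F) (σ : Equiv.Perm (Rt D))) : SameW (H.bnPair F) n (lift F C σ) :=
  (sameW_acts H F hn (lift_mem_N H F σ) hσ (C.acts_rep F σ)).2 rfl

theorem sameW_liftP_mul (i : Fin D.rank) (σ : C.WG) :
    SameW (H.bnPair F) (liftP F C i * lift F C σ) (lift F C (C.srefW i * σ)) := by
  refine sameW_lift H F ((H.bnPair F).N.mul_mem (S_subset_N (liftP_mem_S H F i)) (lift_mem_N H F σ)) ?_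
  rw [Subgroup.coe_mul, Subgroup.coe_mul]
  exact C.acts_mul F (liftP_acts H F i) (C.acts_rep F σ)

theorem len_liftP_mul (i : Fin D.rank) (σ : C.WG) :
    len (H.bnPair F) (liftP F C i * lift F C σ) = wlen C (C.srefW i * σ) := by
  rw [← len_lift H F, len_congr ((H.bnPair F).N.mul_mem (S_subset_N (liftP_mem_S H F i))
    (lift_mem_N H F σ)) (lift_mem_N H F _) (sameW_liftP_mul H F i σ)]

theorem lift_one_mem : lift F C (1 : C.WG) ∈ (H.bnPair F).B :=
  sameW_one_iff.1 (sameW_lift H F (H.bnPair F).N.one_mem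
    (by simpa [Core.wprod, Core.pprod] using C.acts_wprod F []))

/-- The length datum on the Weyl group. -/
noncomputable def datum : HeckeDeform.Datum C.WG where
  S := Set.range C.srefW
  len := wlen C
  len_one := by
    rw [← len_lift H ℚ, len_eq_zero_iff (lift_mem_N H ℚ 1)]
    exact lift_one_mem H ℚ
  len_inv σ := by
    rw [← len_lift H ℚ σ, ← len_inv (lift_mem_N H ℚ σ), ← len_lift H ℚ σ⁻¹]
    refine len_congr (lift_mem_N H ℚ _) ((H.bnPair ℚ).N.inv_mem (lift_mem_N H ℚ σ)) (sameW_symm ?_)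
    refine sameW_lift H ℚ ((H.bnPair ℚ).N.inv_mem (lift_mem_N H ℚ σ)) ?_
    rw [Subgroup.coe_inv, Subgroup.coe_inv]
    exact C.acts_inv ℚ (C.acts_rep ℚ σ)
  sq_one := by rintro _ ⟨i, rfl⟩; exact Subtype.ext (C.sref_mul_self i)
  step := by
    rintro _ ⟨i, rfl⟩ σ
    have h := len_mul_left_cases (liftP_mem_S H ℚ i) (lift_mem_N H ℚ σ)
    rw [len_lift H ℚ, len_liftP_mul H ℚ] at h
    omega
  descent σ hσ := by
    have hB : lift ℚ C σ ∉ (H.bnPair ℚ).B := by
      intro h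
      refine hσ (Subtype.ext ?_)
      exact ((sameW_acts H ℚ (H.bnPair ℚ).N.one_mem (lift_mem_N H ℚ σ)
        (σ := 1) (by simpa [Core.wprod, Core.pprod] using C.acts_wprod ℚ []) (C.acts_rep ℚ σ)).1
        (sameW_one_iff.2 h)).symm
    obtain ⟨s, hs, hlen⟩ := exists_left_descent (lift_mem_N H ℚ σ) hB
    obtain ⟨i, hi⟩ := C.S_eq hs
    obtain rfl : s = liftP ℚ C i := Subtype.ext hi
    rw [len_lift H ℚ, len_liftP_mul H ℚ] at hlen
    exact ⟨_, ⟨i, rfl⟩, hlen⟩

theorem exists_cell (g : ↥(D.group F)) : ∃ σ : C.WG, g ∈ cell (H.bnPair F) (lift F C σ) := by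
  obtain ⟨σ, b, hb, u, hu, e⟩ := H.exists_normalForm g.2
  have huB : u ∈ D.borelSubgroup F := C.posUS_le_borel (C.US_mono F (fun _ h => h.1) hu)
  exact ⟨σ, mem_cell_iff.2 ⟨⟨b, C.borel_le_group hb⟩, hb, ⟨u, C.borel_le_group huB⟩, huB, Subtype.ext e⟩⟩

theorem cell_unique {g : ↥(D.group F)} {σ τ : C.WG} (h : g ∈ cell (H.bnPair F) (lift F C σ))
    (h' : g ∈ cell (H.bnPair F) (lift F C τ)) : σ = τ :=
  Subtype.ext ((sameW_acts H F (lift_mem_N H F σ) (lift_mem_N H F τ) (C.acts_rep F σ)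
    (C.acts_rep F τ)).1 (sameW_of_mem_cell (lift_mem_N H F σ) (lift_mem_N H F τ) h h'))

/-- The relative position of two cosets. -/
noncomputable def pos (x y : ↥(D.group F) ⧸ (H.bnPair F).B) : C.WG :=
  (exists_cell H F (x.out⁻¹ * y.out)).choose

theorem pos_eq_iff (g h : ↥(D.group F)) (σ : C.WG) :
    pos H F (g : ↥(D.group F) ⧸ (H.bnPair F).B) (h : ↥(D.group F) ⧸ (H.bnPair F).B) = σ ↔
      g⁻¹ * h ∈ cell (H.bnPair F) (lift F C σ) := by
  have hspec := (exists_cell H F ((g : ↥(D.group F) ⧸ (H.bnPair F).B).out⁻¹ *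
    (h : ↥(D.group F) ⧸ (H.bnPair F).B).out)).choose_spec
  rw [← out_mem_iff]
  exact ⟨fun e => e ▸ hspec, fun e => cell_unique H F hspec e⟩

theorem cellMat_lift (σ : C.WG) (x y : ↥(D.group F) ⧸ (H.bnPair F).B) :
    cellMat (H.bnPair F) (lift F C σ) x y = if pos H F x y = σ then 1 else 0 := by
  obtain ⟨g, rfl⟩ := QuotientGroup.mk_surjective x
  obtain ⟨h, rfl⟩ := QuotientGroup.mk_surjective y
  rw [cellMat_apply]
  simp only [pos_eq_iff]

theorem pos_smul (a : ↥(D.group F)) (x y : ↥(D.group F) ⧸ (H.bnPair F).B) :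
    pos H F (a • x) (a • y) = pos H F x y := by
  obtain ⟨g, rfl⟩ := QuotientGroup.mk_surjective x
  obtain ⟨h, rfl⟩ := QuotientGroup.mk_surjective y
  show pos H F ((a * g : ↥(D.group F)) : ↥(D.group F) ⧸ (H.bnPair F).B)
    ((a * h : ↥(D.group F)) : ↥(D.group F) ⧸ (H.bnPair F).B) = _
  rw [pos_eq_iff, show (a * g)⁻¹ * (a * h) = g⁻¹ * h by group, ← pos_eq_iff]

theorem pos_trans (x y x' y' : ↥(D.group F) ⧸ (H.bnPair F).B) (e : pos H F x y = pos H F x' y') :
    ∃ a : ↥(D.group F), a • x' = x ∧ a • y' = y := by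
  obtain ⟨g, rfl⟩ := QuotientGroup.mk_surjective x
  obtain ⟨h, rfl⟩ := QuotientGroup.mk_surjective y
  obtain ⟨g', rfl⟩ := QuotientGroup.mk_surjective x'
  obtain ⟨h', rfl⟩ := QuotientGroup.mk_surjective y'
  obtain ⟨b₁, hb₁, b₂, hb₂, e₁⟩ := mem_cell_iff.1 ((pos_eq_iff H F g h _).1 e)
  obtain ⟨c₁, hc₁, c₂, hc₂, e₂⟩ := mem_cell_iff.1 ((pos_eq_iff H F g' h' _).1 rfl)
  refine ⟨g * b₁ * c₁⁻¹ * g'⁻¹, ?_, ?_⟩
  · show ((g * b₁ * c₁⁻¹ * g'⁻¹ * g' : ↥(D.group F)) : ↥(D.group F) ⧸ (H.bnPair F).B) = g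
    rw [inv_mul_cancel_right, mul_assoc,
      QuotientGroup.mk_mul_of_mem _ ((H.bnPair F).B.mul_mem hb₁ ((H.bnPair F).B.inv_mem hc₁))]
  · show ((g * b₁ * c₁⁻¹ * g'⁻¹ * h' : ↥(D.group F)) : ↥(D.group F) ⧸ (H.bnPair F).B) = h
    have : g * b₁ * c₁⁻¹ * g'⁻¹ * h' = h * (b₂⁻¹ * c₂) := by
      calc g * b₁ * c₁⁻¹ * g'⁻¹ * h' = g * b₁ * c₁⁻¹ * (g'⁻¹ * h') := by group
        _ = g * (b₁ * lift F C (pos H F (g' : ↥(D.group F) ⧸ (H.bnPair F).B) h') * b₂) *
            (b₂⁻¹ * c₂) := by rw [e₂]; group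
        _ = _ := by rw [← e₁]; group
    rw [this, QuotientGroup.mk_mul_of_mem _ ((H.bnPair F).B.mul_mem ((H.bnPair F).B.inv_mem hb₂) hc₂)]

variable [Fintype F]

theorem index_liftP [Fintype (↥(D.group F) ⧸ (H.bnPair F).B)] (i : Fin D.rank) :
    index (H.bnPair F) (liftP F C i) = Fintype.card F := by
  have hlen1 : C.len (C.sref i) = 1 := by
    have := C.len_mul_sref_pos (σ := 1) (fun r => rfl) (i := i) (C.p_pos i)
    rw [one_mul, C.len_one] at this
    exact this
  have hcell : cell (H.bnPair F) (liftP F C i) = cell (H.bnPair F) (lift F C (C.srefW i)) :=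
    (cell_eq_of_sameW (sameW_lift H F (σ := C.srefW i) (S_subset_N (liftP_mem_S H F i)) (liftP_acts H F i))).symm
  have hUB : C.US F (C.inv' (C.sref i)) ≤ D.borelSubgroup F :=
    (C.US_mono F (fun _ h => h.1)).trans C.posUS_le_borel
  let σ := C.srefW i
  have e1 : ↥((H.bnPair F).B) × C.US F (C.inv' (C.sref i)) ≃
      {g : ↥(D.group F) // g ∈ cell (H.bnPair F) (lift F C σ)} := by
    refine Equiv.ofBijective (fun x => ⟨x.1.1 * lift F C σ * ⟨x.2.1, C.borel_le_group (hUB x.2.2)⟩,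
      mem_cell_iff.2 ⟨x.1.1, x.1.2, _, hUB x.2.2, rfl⟩⟩) ⟨?_, ?_⟩
    · rintro ⟨⟨b, hb⟩, ⟨u, hu⟩⟩ ⟨⟨c, hc⟩, ⟨v, hv⟩⟩ e
      have e' := congrArg (fun g : {g : ↥(D.group F) // g ∈ cell (H.bnPair F) (lift F C σ)} =>
        ((g.1 : ↥(D.group F)) : GL D.Idx F)) e
      obtain ⟨-, hbc, huv⟩ := H.normalForm_unique (σ := σ) (τ := σ) hb hc hu hv e'
      subst huv
      obtain rfl : b = c := Subtype.ext hbc
      rfl
    · rintro ⟨g, hg⟩
      obtain ⟨τ, b, hb, u, hu, e⟩ := H.exists_normalForm g.2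
      have huB : u ∈ D.borelSubgroup F := C.posUS_le_borel (C.US_mono F (fun _ h => h.1) hu)
      obtain rfl : τ = σ := cell_unique H F
        (mem_cell_iff.2 ⟨⟨b, C.borel_le_group hb⟩, hb, ⟨u, C.borel_le_group huB⟩, huB, Subtype.ext e⟩) hg
      exact ⟨(⟨⟨b, C.borel_le_group hb⟩, hb⟩, ⟨u, hu⟩), Subtype.ext (Subtype.ext e.symm)⟩
  have e2 : {g : ↥(D.group F) // g ∈ cell (H.bnPair F) (lift F C σ)} ≃
      ↥((H.bnPair F).B) × {z : ↥(D.group F) ⧸ (H.bnPair F).B // z.out ∈ cell (H.bnPair F) (liftP F C i)} := by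
    refine (Equiv.subtypeEquivRight fun g => ?_).trans
      (QuotientGroup.preimageMkEquivSubgroupProdSet (H.bnPair F).B
        {z | z.out ∈ cell (H.bnPair F) (liftP F C i)})
    show g ∈ _ ↔ (g : ↥(D.group F) ⧸ (H.bnPair F).B).out ∈ cell (H.bnPair F) (liftP F C i)
    rw [hcell]
    obtain ⟨⟨c, hc⟩, ec⟩ := QuotientGroup.mk_out_eq_mul (H.bnPair F).B g
    rw [ec]
    exact ⟨mul_mem_cell_right hc, fun h => by
      simpa using mul_mem_cell_right ((H.bnPair F).B.inv_mem hc) h⟩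
  have e3 := Nat.card_congr (e1.trans e2)
  have hU := H.card_US_inv' (R := F) (C.srefW i)
  change Nat.card (C.US F (C.inv' (C.sref i))) = Nat.card F ^ C.len (C.sref i) at hU
  rw [Nat.card_prod, Nat.card_prod, hU] at e3
  have e4 := Nat.eq_of_mul_eq_mul_left Nat.card_pos e3
  rw [hlen1, pow_one,
    Nat.card_eq_fintype_card, Nat.card_eq_fintype_card, Fintype.card_subtype] at e4
  rw [index, e4]

variable [Fintype (↥(D.group F) ⧸ (H.bnPair F).B)]

/-- The realisation on the cosets of the Borel subgroup. -/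
noncomputable def realisation [Fintype C.WG] :
    (datum H).Realisation (Fintype.card F : ℝ) (↥(D.group F) ⧸ (H.bnPair F).B) where
  nonempty := ⟨((1 : ↥(D.group F)) : ↥(D.group F) ⧸ (H.bnPair F).B)⟩
  A σ := cellMat (H.bnPair F) (lift F C σ)
  A_one := by
    ext x y
    obtain ⟨g, rfl⟩ := QuotientGroup.mk_surjective x
    obtain ⟨h, rfl⟩ := QuotientGroup.mk_surjective y
    rw [cellMat_apply, Matrix.one_apply]
    simp only [QuotientGroup.eq, cell_of_mem_B (lift_one_mem H F), SetLike.mem_coe]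
  mul_of_lt := by
    rintro _ ⟨i, rfl⟩ σ hlt
    have hlt' : wlen C σ < wlen C (C.srefW i * σ) := hlt
    have h1 : cellMat (H.bnPair F) (lift F C (C.srefW i)) = cellMat (H.bnPair F) (liftP F C i) :=
      cellMat_congr (sameW_lift H F (σ := C.srefW i) (S_subset_N (liftP_mem_S H F i)) (liftP_acts H F i))
    rw [h1, cellMat_mul (liftP_mem_S H F i) (lift_mem_N H F σ) (by
      rw [len_lift H F, len_liftP_mul H F]; omega)]
    exact (cellMat_congr (sameW_liftP_mul H F i σ)).symm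
  sq := by
    rintro _ ⟨i, rfl⟩
    have h1 : cellMat (H.bnPair F) (lift F C (C.srefW i)) = cellMat (H.bnPair F) (liftP F C i) :=
      cellMat_congr (sameW_lift H F (σ := C.srefW i) (S_subset_N (liftP_mem_S H F i)) (liftP_acts H F i))
    rw [h1, cellMat_sq (liftP_mem_S H F i), index_liftP H F i]
  transpose σ := by
    ext x y
    obtain ⟨g, rfl⟩ := QuotientGroup.mk_surjective x
    obtain ⟨h, rfl⟩ := QuotientGroup.mk_surjective y
    rw [transpose_apply, cellMat_apply, cellMat_apply]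
    have hs : SameW (H.bnPair F) (lift F C σ)⁻¹ (lift F C σ⁻¹) :=
      sameW_lift H F ((H.bnPair F).N.inv_mem (lift_mem_N H F σ)) (by
        rw [Subgroup.coe_inv, Subgroup.coe_inv]; exact C.acts_inv F (C.acts_rep F σ))
    have hc := cell_eq_of_sameW hs
    refine if_congr ⟨fun e => ?_, fun e => ?_⟩ rfl rfl
    · have := inv_mem_cell e
      rwa [_root_.mul_inv_rev, inv_inv, ← hc] at this
    · rw [hc] at e
      have := inv_mem_cell e
      rwa [inv_inv, _root_.mul_inv_rev, inv_inv] at this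
  orth v w hvw := by
    refine Finset.sum_eq_zero fun y _ => ?_
    rw [diag_apply, Matrix.mul_apply]
    refine Finset.sum_eq_zero fun x _ => ?_
    rw [transpose_apply, cellMat_lift H F, cellMat_lift H F]
    split_ifs with h h' <;> simp_all

omit F in
theorem good_infinite [Fintype C.WG] : {q : ℝ | (datum H).Good q}.Infinite := by
  refine ((Nat.infinite_setOfPred_prime.image fun a _ b _ h => Nat.cast_injective h)).mono ?_
  rintro _ ⟨p, hp, rfl⟩
  have : Fact p.Prime := ⟨hp⟩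
  have : Fintype (↥(D.group (ZMod p)) ⧸ (H.bnPair (ZMod p)).B) := Fintype.ofFinite _
  have h := (realisation H (ZMod p)).good (by exact_mod_cast Fintype.card_pos)
  rwa [ZMod.card] at h

omit [Fintype (↥(D.group F) ⧸ (H.bnPair F).B)] in
theorem card_constituents_eq {M : CoxeterMatrix (Fin D.rank)}
    (hM : ∀ i j, orderOf (C.sref i * C.sref j) = M i j) :
    Nat.card {χ : Cfsg.IrrCharacter ↥(D.group F) //
      ∃ φ : ↥(D.group F) → ℂ, Cfsg.IsCharacter ↥(D.group F) φ ∧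
        Cfsg.fixedPointCharacter ((D.borelSubgroup F).subgroupOf (D.group F)) =
          (χ : ↥(D.group F) → ℂ) + φ} = Nat.card (ConjClasses M.Group) := by
  have : Fintype C.WG := Fintype.ofFinite _
  have : Fintype ↥(D.group F) := Fintype.ofFinite _
  have : Fintype (↥(D.group F) ⧸ (H.bnPair F).B) := Fintype.ofFinite _
  have hgood := good_infinite H
  have hq : (0 : ℝ) < Fintype.card F := by exact_mod_cast Fintype.card_pos
  have h1 : Nat.card {χ : Cfsg.IrrCharacter ↥(D.group F) //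
      ∃ φ : ↥(D.group F) → ℂ, Cfsg.IsCharacter ↥(D.group F) φ ∧
        Cfsg.fixedPointCharacter (H.bnPair F).B = (χ : ↥(D.group F) → ℂ) + φ} =
      Nat.card (ConjClasses C.WG) := by
    rw [card_constituents, finrank_map_classFuns (realisation H F) (pos H F)
      (fun σ x y => by
        rw [show (realisation H F).A σ = cellMat (H.bnPair F) (lift F C σ) from rfl, cellMat_lift H F]
        split_ifs <;> rfl)
      (pos_smul H F) (pos_trans H F) hq ((datum H).good_of_infinite hgood _),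
      (datum H).rank_Phi hgood hq]
  obtain ⟨cs, -⟩ := C.exists_coxeterSystem hM
  refine h1.trans (Nat.card_congr ⟨ConjClasses.map cs.mulEquiv.toMonoidHom,
    ConjClasses.map cs.mulEquiv.symm.toMonoidHom, fun a => ?_, fun a => ?_⟩)
  · obtain ⟨a, rfl⟩ := ConjClasses.mk_surjective a
    show ConjClasses.mk (cs.mulEquiv.symm (cs.mulEquiv a)) = _
    rw [MulEquiv.symm_apply_apply]
  · obtain ⟨a, rfl⟩ := ConjClasses.mk_surjective a
    show ConjClasses.mk (cs.mulEquiv (cs.mulEquiv.symm a)) = _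
    rw [MulEquiv.apply_symm_apply]

end Cfsg.Agent.Lib.HeckeDeform.Chevalley
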