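import Cfsg.Agent.Lib.HeckeDeform.Center
import Cfsg.Agent.Lib.Characters.Complete
import Cfsg.Agent.Lib.GLFlags.NormOne
import Cfsg.Prelude.Def_ParabolicCharacters

/-!
# Constituents of the permutation character and the centre of the Hecke algebra
-/

set_option autoImplicit false
set_option linter.unusedSectionVars false

namespace Cfsg.Agent.Lib.HeckeDeform

open Matrix Finset Module
open scoped Classical ComplexConjugate
open Cfsg.Agent.Lib.Characters.Basic Cfsg.Agent.Lib.Characters.Complete Cfsg.Agent.Lib.Induced.Basic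

/-- Extending scalars from `ℝ` to `ℂ` keeps the rank. -/
theorem rank_map_ofReal {m n : Type*} [Fintype m] [Fintype n] (A : Matrix m n ℝ) :
    (A.map Complex.ofRealHom).rank = A.rank := by
  let b : Basis (Fin A.rank) ℝ (LinearMap.range A.mulVecLin) := Module.finBasis ℝ _
  let U : Matrix m (Fin A.rank) ℝ := Matrix.of fun i k => (b k : m → ℝ) i
  let V : Matrix (Fin A.rank) n ℝ := Matrix.of fun k j =>
    b.repr ⟨A *ᵥ Pi.single j 1, ⟨_, rfl⟩⟩ k
  have hUV : U * V = A := by
    ext i j
    have h := congrArg (fun x : LinearMap.range A.mulVecLin => (x : m → ℝ) i)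
      (b.sum_repr ⟨A *ᵥ Pi.single j 1, ⟨_, rfl⟩⟩)
    simp only [Submodule.coe_sum, Submodule.coe_smul, Finset.sum_apply, Pi.smul_apply,
      smul_eq_mul] at h
    rw [show A i j = (A *ᵥ Pi.single j 1) i by simp, ← h, Matrix.mul_apply]
    exact Finset.sum_congr rfl fun k _ => mul_comm _ _
  obtain ⟨B, C, hBC⟩ : ∃ (B : Matrix (Fin A.rank) m ℝ) (C : Matrix n (Fin A.rank) ℝ),
      B * A * C = 1 := by
    choose x hx using fun k => (b k).2
    obtain ⟨g, hg⟩ := LinearMap.exists_extend (b.equivFun.toLinearMap)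
    refine ⟨LinearMap.toMatrix' g, Matrix.of fun j i => x i j, ?_⟩
    refine Matrix.ext_iff_mulVec.2 fun v => ?_
    have hC : (Matrix.of fun j i => x i j : Matrix n (Fin A.rank) ℝ) *ᵥ v = ∑ i, v i • x i := by
      funext j; simp [mulVec, dotProduct, Finset.sum_apply, mul_comm]
    rw [← mulVec_mulVec, ← mulVec_mulVec, hC, one_mulVec, Matrix.mulVec_sum]
    simp only [mulVecLin_apply] at hx
    simp only [Matrix.mulVec_smul, hx, LinearMap.toMatrix'_mulVec, map_sum, map_smul]
    have : ∀ i, g (b i : m → ℝ) = Pi.single i 1 := by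
      intro i
      have := LinearMap.congr_fun hg (b i)
      simp only [LinearMap.comp_apply, Submodule.subtype_apply] at this
      rw [this]
      funext j
      simp [Pi.single_apply, eq_comm]
    simp only [this]
    funext j
    simp [Finset.sum_apply, Pi.single_apply]
  apply le_antisymm
  · rw [← congrArg (fun M : Matrix m n ℝ => M.map Complex.ofRealHom) hUV, Matrix.map_mul]
    refine (rank_mul_le_left _ _).trans ((rank_le_card_width _).trans ?_)
    rw [Fintype.card_fin]
  · have h := congrArg (fun M : Matrix (Fin A.rank) (Fin A.rank) ℝ => M.map Complex.ofRealHom) hBC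
    simp only [Matrix.map_mul, Matrix.map_one _ (map_zero _) (map_one _)] at h
    calc A.rank = (1 : Matrix (Fin A.rank) (Fin A.rank) ℂ).rank := by
          rw [rank_one, Fintype.card_fin]
      _ ≤ _ := by
          rw [← h]
          exact (rank_mul_le_left _ _).trans (rank_mul_le_right _ _)

universe u

variable {W : Type*} [Group W] [Fintype W] {D : Datum W}
variable {G : Type u} [Group G] [Fintype G] {B : Subgroup G} [Fintype (G ⧸ B)]

/-- `∑ f(g) π(g)` on `ℂ[G ⧸ B]`. -/
noncomputable def op (B : Subgroup G) [Fintype (G ⧸ B)] :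
    (G → ℂ) →ₗ[ℂ] Matrix (G ⧸ B) (G ⧸ B) ℂ where
  toFun f := Matrix.of fun x x' => ∑ g : G, if g • x' = x then f g else 0
  map_add' f f' := by
    ext x x'
    simp [← Finset.sum_add_distrib, ite_add_ite]
  map_smul' c f := by
    ext x x'
    simp [Finset.mul_sum, mul_ite]

theorem op_apply (f : G → ℂ) (x x' : G ⧸ B) :
    op B f x x' = ∑ g : G, if g • x' = x then f g else 0 := rfl

/-- The class functions. -/
def classFuns (G : Type u) [Group G] : Submodule ℂ (G → ℂ) where
  carrier := {f | Cfsg.IsClassFunction G f}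
  add_mem' h h' := classFun_add h h'
  zero_mem' := classFun_zero
  smul_mem' c _ h := classFun_smul c h

/-! ### The image of the class functions and the centre -/

section Image

variable {q : ℝ} (ρ : D.Realisation q (G ⧸ B)) (pos : G ⧸ B → G ⧸ B → W)
variable (hA : ∀ w x y, ρ.A w x y = if pos x y = w then 1 else 0)
variable (hinv : ∀ (g : G) x y, pos (g • x) (g • y) = pos x y)
variable (htr : ∀ x y x' y', pos x y = pos x' y' → ∃ g : G, g • x' = x ∧ g • y' = y)

/-- `z ↦ ∑ z_w A_w` over `ℂ`. -/
def AC (pos : G ⧸ B → G ⧸ B → W) : (W → ℂ) →ₗ[ℂ] Matrix (G ⧸ B) (G ⧸ B) ℂ where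
  toFun z := Matrix.of fun x y => z (pos x y)
  map_add' _ _ := rfl
  map_smul' _ _ := rfl

theorem AC_apply (pos : G ⧸ B → G ⧸ B → W) (z : W → ℂ) (x y : G ⧸ B) :
    AC pos z x y = z (pos x y) := rfl

include ρ hA

theorem card_pos_fibre (w : W) :
    ((Finset.univ.filter fun p : (G ⧸ B) × (G ⧸ B) => pos p.1 p.2 = w).card : ℝ) =
      q ^ D.len w * Fintype.card (G ⧸ B) := by
  rw [← ρ.trace_sq w, ← Finset.sum_boole, Fintype.sum_prod_type]
  simp only [Matrix.trace, Matrix.diag, Matrix.mul_apply, Matrix.transpose_apply]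
  rw [Finset.sum_comm]
  exact Finset.sum_congr rfl fun y _ => Finset.sum_congr rfl fun x _ => by
    rw [hA]; split_ifs <;> simp

theorem pos_surjective (hq : 0 < q) (w : W) : ∃ x y, pos x y = w := by
  by_contra h
  push Not at h
  have h1 := card_pos_fibre ρ pos hA w
  rw [Finset.filter_eq_empty_iff.2 fun p _ => h p.1 p.2, Finset.card_empty, Nat.cast_zero] at h1
  exact ne_of_lt (mul_pos (pow_pos hq _) ρ.card_pos) h1

theorem AC_injective (hq : 0 < q) : Function.Injective (AC pos) := fun z z' h => funext fun w => by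
  obtain ⟨x, y, rfl⟩ := pos_surjective ρ pos hA hq w
  exact congrFun (congrFun h x) y

theorem AC_single (w : W) : AC pos (Pi.single w 1) = (ρ.A w).map Complex.ofRealHom := by
  ext x y
  rw [Matrix.map_apply, hA]
  show (Pi.single w 1 : W → ℂ) (pos x y) = _
  rw [Pi.single_apply]
  split_ifs <;> simp

theorem AC_ofReal (z : W → ℝ) :
    AC pos (fun w => (z w : ℂ)) = (ρ.comb z).map Complex.ofRealHom := by
  ext x y
  show ((z (pos x y) : ℝ) : ℂ) = ((∑ w, z w • ρ.A w) x y : ℝ)
  simp [Matrix.sum_apply, hA]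

theorem AC_mul_single (w v : W) :
    AC pos (Pi.single w 1) * AC pos (Pi.single v 1) =
      AC pos (fun u => ((D.T q w u v : ℝ) : ℂ)) := by
  rw [AC_single ρ pos hA, AC_single ρ pos hA, ← Matrix.map_mul, ρ.A_mul_A, AC_ofReal ρ pos hA]
  congr 2
  funext u
  simp [mulVec, dotProduct, Pi.single_apply]

theorem AC_eq_sum (y : W → ℂ) : AC pos y = ∑ v, y v • AC pos (Pi.single v 1) := by
  ext x x'
  simp [Matrix.sum_apply, AC_apply, Pi.single_apply]

theorem AC_mul (z z' : W → ℂ) : AC pos z * AC pos z' =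
    AC pos (fun u => ∑ w, ∑ v, z w * z' v * ((D.T q w u v : ℝ) : ℂ)) := by
  rw [AC_eq_sum ρ pos hA z, AC_eq_sum ρ pos hA z', Finset.sum_mul_sum]
  simp only [smul_mul_assoc, mul_smul_comm]
  simp only [AC_mul_single ρ pos hA, smul_smul, ← map_smul, ← map_sum]
  congr 1
  funext u
  simp [Finset.sum_apply, mul_assoc, mul_left_comm]

include hinv htr in
theorem op_eq_avg (hq : 0 < q) (y : W → ℂ) :
    op B (fun g => ∑ b, AC pos y (g • b) b) =
      ((Fintype.card G : ℂ) / ((q : ℂ) ^ D.bound * Fintype.card (G ⧸ B))) •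
        ∑ w, ((D.wt q w : ℝ) : ℂ) • (AC pos (Pi.single w 1) * AC pos y * AC pos (Pi.single w⁻¹ 1)) := by
  ext x x'
  have hcard : ∀ a b, (∑ g : G, if g • x' = x ∧ g • b = a then (1 : ℂ) else 0) =
      if pos x a = pos x' b then
        (Fintype.card G : ℂ) / ((q : ℂ) ^ D.bound * Fintype.card (G ⧸ B)) * ((D.wt q (pos x' b) : ℝ) : ℂ)
      else 0 := by
    intro a b
    rw [Finset.sum_boole]
    split_ifs with h
    · obtain ⟨g₀, hg₀, hg₀'⟩ := htr x a x' b h
      set w := pos x' b with hw
      have horb : (Finset.univ.filter fun g : G => g • x' = x ∧ g • b = a).card *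
          (Finset.univ.filter fun p : (G ⧸ B) × (G ⧸ B) => pos p.1 p.2 = w).card = Fintype.card G := by
        have hmaps : ∀ g ∈ (Finset.univ : Finset G), (g • x', g • b) ∈
            Finset.univ.filter fun p : (G ⧸ B) × (G ⧸ B) => pos p.1 p.2 = w := by
          intro g _
          simp [hinv, hw]
        rw [← Finset.card_univ, Finset.card_eq_sum_card_fiberwise hmaps,
          Finset.sum_const_nat (m := (Finset.univ.filter fun g : G => g • x' = x ∧ g • b = a).card),
          mul_comm]
        rintro ⟨c, d⟩ hcd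
        simp only [Finset.mem_filter, Finset.mem_univ, true_and] at hcd
        obtain ⟨g₁, hg₁, hg₁'⟩ := htr c d x' b hcd
        refine Finset.card_equiv (Equiv.mulLeft (g₀ * g₁⁻¹)) fun g => ?_
        simp only [Finset.mem_filter, Finset.mem_univ, true_and, Equiv.coe_mulLeft, Prod.mk.injEq,
          mul_smul]
        rw [smul_eq_iff_eq_inv_smul g₀, smul_eq_iff_eq_inv_smul g₀, inv_smul_eq_iff,
          inv_smul_eq_iff, ← hg₀, ← hg₀', inv_smul_smul, inv_smul_smul, hg₁, hg₁']
      have hn := card_pos_fibre ρ pos hA w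
      have horbR : ((Finset.univ.filter fun g : G => g • x' = x ∧ g • b = a).card : ℝ) *
          (q ^ D.len w * Fintype.card (G ⧸ B)) = Fintype.card G := by
        rw [← hn]; exact_mod_cast horb
      have hb : q ^ D.bound = q ^ D.len w * D.wt q w := by
        rw [Datum.wt, ← pow_add, Nat.add_sub_cancel' (Datum.Good.le_bound w)]
      have key : ((Finset.univ.filter fun g : G => g • x' = x ∧ g • b = a).card : ℝ) =
          (Fintype.card G : ℝ) / (q ^ D.bound * Fintype.card (G ⧸ B)) * D.wt q w := by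
        rw [← horbR, hb]
        have := ρ.card_pos.ne'
        have h1 : D.wt q w ≠ 0 := pow_ne_zero _ hq.ne'
        field_simp
      have := congrArg (fun r : ℝ => (r : ℂ)) key
      push_cast at this
      exact this
    · rw [Finset.filter_eq_empty_iff.2 ?_, Finset.card_empty, Nat.cast_zero]
      rintro g - ⟨e1, e2⟩
      exact h (by rw [← e1, ← e2, hinv])
  have lhs : op B (fun g => ∑ b, AC pos y (g • b) b) x x' =
      ∑ b, ∑ a, (∑ g : G, if g • x' = x ∧ g • b = a then (1 : ℂ) else 0) * AC pos y a b := by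
    show (∑ g : G, if g • x' = x then ∑ b, AC pos y (g • b) b else 0) = _
    simp only [Finset.sum_mul, ite_mul, one_mul, zero_mul]
    conv_rhs => arg 2; ext b; rw [Finset.sum_comm]
    conv_rhs => rw [Finset.sum_comm]
    refine Finset.sum_congr rfl fun g _ => ?_
    by_cases hg : g • x' = x <;> simp [hg]
  have hentry : ∀ w (a : G ⧸ B), AC pos (Pi.single w⁻¹ 1) a x' = if pos x' a = w then (1 : ℂ) else 0 := by
    intro w a
    rw [AC_single ρ pos hA, ← ρ.transpose, Matrix.map_apply, Matrix.transpose_apply, hA]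
    split_ifs <;> simp
  have hentry' : ∀ w (a : G ⧸ B), AC pos (Pi.single w 1) x a = if pos x a = w then (1 : ℂ) else 0 := by
    intro w a
    show (Pi.single w 1 : W → ℂ) (pos x a) = _
    rw [Pi.single_apply]
  rw [lhs, Matrix.smul_apply, Matrix.sum_apply, smul_eq_mul, Finset.mul_sum]
  simp only [Matrix.smul_apply, Matrix.mul_apply, smul_eq_mul, hentry, hentry', Finset.mul_sum,
    Finset.sum_mul, hcard]
  conv_rhs => rw [Finset.sum_comm]
  refine Finset.sum_congr rfl fun b _ => ?_
  conv_rhs => rw [Finset.sum_comm]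
  refine Finset.sum_congr rfl fun a _ => ?_
  rw [Finset.sum_eq_single (pos x' b)]
  · rw [if_pos (rfl : pos x' b = pos x' b)]; split_ifs <;> ring
  · intro w _ hw
    rw [if_neg (Ne.symm hw)]
    ring
  · simp

theorem avg_eq_Phi (y : W → ℂ) :
    ∑ w, ((D.wt q w : ℝ) : ℂ) • (AC pos (Pi.single w 1) * AC pos y * AC pos (Pi.single w⁻¹ 1)) =
      AC pos ((D.Phi q).map Complex.ofRealHom *ᵥ y) := by
  have hv : ∀ v, ∑ w, ((D.wt q w : ℝ) : ℂ) • (AC pos (Pi.single w 1) * AC pos (Pi.single v 1) *
      AC pos (Pi.single w⁻¹ 1)) = AC pos (fun u => ((D.Phi q u v : ℝ) : ℂ)) := by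
    intro v
    have hr : ∀ w, ρ.A w * ρ.A v * ρ.A w⁻¹ =
        ρ.comb ((D.T q w * D.T q v * D.T q w⁻¹) *ᵥ Pi.single 1 1) := by
      intro w
      rw [Matrix.mul_assoc, ρ.A_mul_A, ρ.A_mul_comb, ← mulVec_mulVec (Pi.single 1 1),
        D.T_mulVec_one, ← mulVec_mulVec]
    have : (fun u => D.Phi q u v) =
        ∑ w, D.wt q w • ((D.T q w * D.T q v * D.T q w⁻¹) *ᵥ Pi.single 1 1) := by
      funext u
      simp [Datum.Phi, Finset.sum_apply, mulVec, dotProduct, Pi.single_apply]
    rw [AC_ofReal ρ pos hA (fun u => D.Phi q u v), this, map_sum]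
    simp only [map_smul, ← hr, AC_single ρ pos hA, ← Matrix.map_mul]
    ext a b
    simp [Matrix.sum_apply, ← Matrix.map_mul]
  rw [AC_eq_sum ρ pos hA y]
  simp only [Matrix.mul_sum, Matrix.sum_mul, Matrix.mul_smul, Matrix.smul_mul, Finset.smul_sum,
    smul_comm _ (y _)]
  rw [Finset.sum_comm]
  simp only [← Finset.smul_sum, hv, ← map_smul, ← map_sum]
  congr 1
  funext u
  simp [mulVec, dotProduct, Finset.sum_apply, Matrix.map_apply, mul_comm]

include hinv htr

theorem map_classFuns (hq : 0 < q) (hgood : D.Good q) :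
    (classFuns G).map (op B) =
      (LinearMap.range ((D.Phi q).map Complex.ofRealHom).mulVecLin).map (AC pos) := by
  set c : ℂ := (Fintype.card G : ℂ) / ((q : ℂ) ^ D.bound * Fintype.card (G ⧸ B))
  have hc : c ≠ 0 := by
    refine div_ne_zero (Nat.cast_ne_zero.2 Fintype.card_ne_zero) (mul_ne_zero (pow_ne_zero _ ?_) ?_)
    · exact_mod_cast hq.ne'
    · exact_mod_cast ρ.card_pos.ne'
  apply le_antisymm
  · rintro _ ⟨f, hf, rfl⟩
    have hopinv : ∀ (h : G) x x', op B f (h • x) (h • x') = op B f x x' := by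
      intro h x x'
      show (∑ g : G, if g • h • x' = h • x then f g else 0) = ∑ g : G, if g • x' = x then f g else 0
      refine (Fintype.sum_equiv (MulAut.conj h).toEquiv _ _ fun g => ?_).symm
      simp [MulAut.conj_apply, mul_smul, hf g h]
    choose rx ry hr using pos_surjective ρ pos hA hq
    let z : W → ℂ := fun w => op B f (rx w) (ry w)
    have hz : op B f = AC pos z := by
      ext x x'
      obtain ⟨g, e1, e2⟩ := htr x x' (rx (pos x x')) (ry (pos x x')) (hr _).symm
      show op B f x x' = op B f (rx (pos x x')) (ry (pos x x'))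
      calc op B f x x' = op B f (g • rx (pos x x')) (g • ry (pos x x')) := by rw [e1, e2]
        _ = _ := hopinv _ _ _
    have hcomm : ∀ z' : W → ℂ, AC pos z * AC pos z' = AC pos z' * AC pos z := by
      intro z'
      rw [← hz]
      ext x x'
      simp only [Matrix.mul_apply]
      show (∑ t, (∑ g : G, if g • t = x then f g else 0) * z' (pos t x')) =
        ∑ t, z' (pos x t) * (∑ g : G, if g • x' = t then f g else 0)
      simp only [Finset.sum_mul, Finset.mul_sum, ite_mul, mul_ite, zero_mul, mul_zero]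
      rw [Finset.sum_comm]
      conv_rhs => rw [Finset.sum_comm]
      refine Finset.sum_congr rfl fun g _ => ?_
      rw [Finset.sum_ite_eq (a := g • x'), if_pos (Finset.mem_univ _)]
      simp only [smul_eq_iff_eq_inv_smul]
      rw [Finset.sum_ite_eq' (a := g⁻¹ • x), if_pos (Finset.mem_univ _)]
      rw [← hinv g (g⁻¹ • x) x', smul_inv_smul]
      ring
    have hker : ∀ v u, ∑ w, z w * ((D.T q w u v : ℝ) : ℂ) = ∑ w, z w * ((D.T q v u w : ℝ) : ℂ) := by
      intro v u
      have := hcomm (Pi.single v 1)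
      rw [AC_mul ρ pos hA, AC_mul ρ pos hA] at this
      have := congrFun (AC_injective ρ pos hA hq this) u
      simpa [Pi.single_apply] using this
    have hre : ∀ part : ℂ →ₗ[ℝ] ℝ, (fun w => part (z w)) ∈ LinearMap.ker (D.Psi q).mulVecLin := by
      intro part
      rw [LinearMap.mem_ker, mulVecLin_apply]
      funext ⟨v, u⟩
      have h1 := congrArg part (hker v u)
      have e : ∀ (a : ℂ) (r : ℝ), a * (r : ℂ) = r • a := fun a r => by
        rw [Complex.real_smul]; ring
      simp only [e, map_sum, map_smul, smul_eq_mul] at h1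
      simp [mulVec, dotProduct, Datum.Psi, sub_mul, Finset.sum_sub_distrib, h1]
    rw [← hgood.range_Phi hq] at hre
    obtain ⟨y₁, hy₁⟩ := hre Complex.reLm
    obtain ⟨y₂, hy₂⟩ := hre Complex.imLm
    refine ⟨z, ⟨fun w => (y₁ w : ℂ) + (y₂ w : ℂ) * Complex.I, ?_⟩, hz.symm⟩
    funext u
    have r1 := congrFun hy₁ u
    have r2 := congrFun hy₂ u
    simp only [mulVecLin_apply, mulVec, dotProduct, Complex.reLm_coe, Complex.imLm_coe] at r1 r2
    rw [mulVecLin_apply, ← Complex.re_add_im (z u), ← r1, ← r2]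
    simp [mulVec, dotProduct, Matrix.map_apply, Finset.sum_add_distrib, Finset.sum_mul, mul_add,
      mul_assoc]
  · rintro _ ⟨_, ⟨y, rfl⟩, rfl⟩
    refine ⟨c⁻¹ • fun g => ∑ b, AC pos y (g • b) b, Submodule.smul_mem _ _ ?_, ?_⟩
    · intro g h
      show ∑ b, y (pos ((h * g * h⁻¹) • b) b) = ∑ b, y (pos (g • b) b)
      refine (Fintype.sum_equiv (MulAction.toPerm h) _ _ fun b => ?_).symm
      simp [mul_smul, hinv]
    · rw [map_smul, op_eq_avg ρ pos hA hinv htr hq, smul_smul, inv_mul_cancel₀ hc, one_smul,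
        mulVecLin_apply, avg_eq_Phi ρ pos hA]

theorem finrank_map_classFuns (hq : 0 < q) (hgood : D.Good q) :
    finrank ℂ ((classFuns G).map (op B)) = (D.Phi q).rank := by
  rw [map_classFuns ρ pos hA hinv htr hq hgood,
    ← (Submodule.equivMapOfInjective _ (AC_injective ρ pos hA hq) _).finrank_eq,
    ← Matrix.rank, rank_map_ofReal]

end Image

/-! ### Constituents -/

section Char

theorem sum_subgroup_char {n : ℕ} (τ : Representation ℂ G (Fin n → ℂ)) [Fintype B] :
    (Fintype.card B : ℂ)⁻¹ * ∑ b : B, τ.character (b : G) =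
      finrank ℂ (Representation.invariants (τ.comp B.subtype)) := by
  have : Invertible (Fintype.card B : ℂ) := invertibleOfNonzero (Nat.cast_ne_zero.2 Fintype.card_ne_zero)
  rw [← (Representation.isProj_averageMap (τ.comp B.subtype)).trace]
  simp [Representation.character, GroupAlgebra.average, _root_.map_sum, Representation.averageMap]

theorem classInner_perm (χ : Cfsg.IrrCharacter G) [Fintype B] :
    Cfsg.classInner (Cfsg.fixedPointCharacter B) (χ : G → ℂ) =
      conj ((Fintype.card B : ℂ)⁻¹ * ∑ b : B, (χ : G → ℂ) b) := by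
  have hfix : ∀ g : G, Cfsg.fixedPointCharacter B g = ∑ x : G ⧸ B, if g • x = x then (1 : ℂ) else 0 := by
    intro g
    rw [Finset.sum_boole, Cfsg.fixedPointCharacter]
    congr 1
    rw [Nat.card_eq_fintype_card, Fintype.card_subtype]
    congr 1
  have hx : ∀ x : G ⧸ B, (∑ g : G, if g • x = x then conj ((χ : G → ℂ) g) else 0) =
      conj (∑ b : B, (χ : G → ℂ) b) := by
    intro x
    obtain ⟨a, rfl⟩ := QuotientGroup.mk_surjective x
    rw [← Finset.sum_filter, map_sum]
    refine Finset.sum_bij' (fun g hg => ⟨a⁻¹ * g * a, ?_⟩) (fun b _ => a * b * a⁻¹)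
      (fun _ _ => Finset.mem_univ _) (fun b _ => ?_) (fun g _ => ?_) (fun b _ => ?_) (fun g _ => ?_)
    · have := (Finset.mem_filter.1 hg).2
      change ((g * a : G) : G ⧸ B) = (a : G ⧸ B) at this
      rw [QuotientGroup.eq] at this
      · simpa [mul_assoc] using B.inv_mem this
    · rw [Finset.mem_filter]
      refine ⟨Finset.mem_univ _, ?_⟩
      show ((a * b * a⁻¹ * a : G) : G ⧸ B) = a
      rw [inv_mul_cancel_right, QuotientGroup.mk_mul_of_mem _ b.2]
    · simp [mul_assoc]
    · ext; simp [mul_assoc]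
    · congr 1
      have := isClassFunction_irr χ g a⁻¹
      rw [inv_inv] at this
      exact this.symm
  have key : ∑ g : G, Cfsg.fixedPointCharacter B g * conj ((χ : G → ℂ) g) =
      (Fintype.card (G ⧸ B) : ℂ) * conj (∑ b : B, (χ : G → ℂ) b) := by
    simp only [hfix, Finset.sum_mul, ite_mul, one_mul, zero_mul]
    rw [Finset.sum_comm]
    simp only [hx, Finset.sum_const, Finset.card_univ, nsmul_eq_mul]
  rw [Cfsg.classInner, key, map_mul, map_inv₀, map_natCast, ← mul_assoc]
  congr 1
  have h := B.card_eq_card_quotient_mul_card_subgroup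
  rw [h, Nat.card_eq_fintype_card, Nat.card_eq_fintype_card]
  have : (Fintype.card (G ⧸ B) : ℂ) ≠ 0 := Nat.cast_ne_zero.2 Fintype.card_ne_zero
  push_cast
  field_simp

theorem constituent_iff (χ : Cfsg.IrrCharacter G) :
    (∃ φ : G → ℂ, Cfsg.IsCharacter G φ ∧ Cfsg.fixedPointCharacter B = (χ : G → ℂ) + φ) ↔
      Cfsg.classInner (Cfsg.fixedPointCharacter B) (χ : G → ℂ) ≠ 0 := by
  constructor
  · rintro ⟨φ, hφ, e⟩ h0
    obtain ⟨k, hk⟩ := exists_classInner_nat hφ (isCharacter_irr χ)
    rw [e, classInner_add_left, classInner_self_irr, hk] at h0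
    have : 1 + k = 0 := by exact_mod_cast h0
    omega
  · intro hne
    obtain ⟨m, σ, hσ⟩ := Cfsg.Agent.Lib.GLFlags.isCharacter_fixedPointCharacter B
    obtain ⟨n, τ, hτ, hc⟩ := exists_rep χ
    have := hτ
    obtain ⟨p, r, hpr, ⟨e⟩⟩ := exists_summand τ σ (by rw [hσ, hc]; exact hne)
    refine ⟨r.toRepresentation.character, isCharacter_character _, ?_⟩
    rw [← hσ, char_add_of_isCompl σ p r hpr, ← hc, Representation.char_iso e]

/-- The constituents give a basis of the image of the class functions. -/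
theorem card_constituents :
    Nat.card {χ : Cfsg.IrrCharacter G //
        ∃ φ : G → ℂ, Cfsg.IsCharacter G φ ∧ Cfsg.fixedPointCharacter B = (χ : G → ℂ) + φ} =
      finrank ℂ ((classFuns G).map (op B)) := by
  have := Fintype.ofFinite B
  have := Fintype.ofFinite (Cfsg.IrrCharacter G)
  set P : Cfsg.IrrCharacter G → Prop := fun χ =>
    ∃ φ : G → ℂ, Cfsg.IsCharacter G φ ∧ Cfsg.fixedPointCharacter B = (χ : G → ℂ) + φ
  let F : Cfsg.IrrCharacter G → Matrix (G ⧸ B) (G ⧸ B) ℂ := fun χ =>
    op B (fun g => conj ((χ : G → ℂ) g))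
  have hzero : ∀ χ, ¬ P χ → F χ = 0 := by
    intro χ hχ
    simp only [P] at hχ
    rw [constituent_iff, not_not, classInner_perm, map_eq_zero] at hχ
    obtain ⟨n, τ, hτ, hc⟩ := exists_rep χ
    rw [← hc, sum_subgroup_char, Nat.cast_eq_zero, Submodule.finrank_eq_zero] at hχ
    have hS : ∀ v, ∑ b : B, τ (b : G) v = 0 := by
      intro v
      have hmem : ∑ b : B, τ (b : G) v ∈ Representation.invariants (τ.comp B.subtype) := by
        rw [Representation.mem_invariants]
        intro b₀
        rw [map_sum]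
        refine Fintype.sum_equiv (Equiv.mulLeft b₀) _ _ fun b => ?_
        simp
      rw [hχ] at hmem
      exact (Submodule.mem_bot ℂ).1 hmem
    have hS' : ∀ a : G, ∑ b : B, (χ : G → ℂ) (a * b) = 0 := by
      intro a
      rw [← hc]
      simp only [Representation.character, map_mul, ← map_sum, ← Finset.mul_sum]
      have : ∑ b : B, τ (b : G) = 0 := LinearMap.ext fun v => by simpa using hS v
      rw [this, mul_zero, map_zero]
    ext x x'
    show (∑ g : G, if g • x' = x then conj ((χ : G → ℂ) g) else 0) = 0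
    obtain ⟨a, rfl⟩ := QuotientGroup.mk_surjective x'
    obtain ⟨a', rfl⟩ := QuotientGroup.mk_surjective x
    rw [← Finset.sum_filter, ← map_sum, ← map_zero (starRingEnd ℂ)]
    congr 1
    rw [← hS' (a⁻¹ * a')]
    refine Finset.sum_bij' (fun g hg => ⟨a'⁻¹ * g * a, ?_⟩) (fun b _ => a' * b * a⁻¹)
      (fun _ _ => Finset.mem_univ _) (fun b _ => ?_) (fun g _ => ?_) (fun b _ => ?_) (fun g _ => ?_)
    · have := (Finset.mem_filter.1 hg).2
      change ((g * a : G) : G ⧸ B) = (a' : G ⧸ B) at this
      rw [QuotientGroup.eq] at this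
      simpa [mul_assoc] using B.inv_mem this
    · rw [Finset.mem_filter]
      refine ⟨Finset.mem_univ _, ?_⟩
      show ((a' * b * a⁻¹ * a : G) : G ⧸ B) = a'
      rw [inv_mul_cancel_right, QuotientGroup.mk_mul_of_mem _ b.2]
    · simp [mul_assoc]
    · ext; simp [mul_assoc]
    · have := isClassFunction_irr χ g a⁻¹
      rw [inv_inv] at this
      rw [← this]
      group
  have hind : LinearIndependent ℂ (fun χ : {χ // P χ} => F χ.1) := by
    rw [Fintype.linearIndependent_iff]
    intro c hc ψ
    set f : G → ℂ := ∑ χ : {χ // P χ}, c χ • (fun g => conj ((χ.1 : G → ℂ) g))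
    have hf0 : op B f = 0 := by
      simp only [f, map_sum, map_smul]
      exact hc
    have hsum : ∀ a : G, ∑ b : B, f (a * b) = 0 := by
      intro a
      have h := congrFun (congrFun hf0 (a : G ⧸ B)) ((1 : G) : G ⧸ B)
      rw [Matrix.zero_apply] at h
      rw [← h]
      show _ = ∑ g : G, if g • ((1 : G) : G ⧸ B) = (a : G ⧸ B) then f g else 0
      rw [← Finset.sum_filter]
      refine Finset.sum_bij' (fun b _ => a * b) (fun g hg => ⟨a⁻¹ * g, ?_⟩) (fun b _ => ?_)
        (fun _ _ => Finset.mem_univ _) (fun b _ => ?_) (fun g _ => ?_) (fun b _ => ?_)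
      · have := (Finset.mem_filter.1 hg).2
        change ((g * 1 : G) : G ⧸ B) = (a : G ⧸ B) at this
        rw [mul_one, QuotientGroup.eq] at this
        simpa using B.inv_mem this
      · rw [Finset.mem_filter]
        refine ⟨Finset.mem_univ _, ?_⟩
        show ((a * b * 1 : G) : G ⧸ B) = a
        rw [mul_one, QuotientGroup.mk_mul_of_mem _ b.2]
      · ext; simp
      · simp
      · rfl
    obtain ⟨n, τ, hτ, hcτ⟩ := exists_rep ψ.1
    have := hτ
    obtain ⟨s, hs, hs'⟩ := avg_eq_scalar (θ := fun g => f g⁻¹) (by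
      intro g h
      simp only [f, Finset.sum_apply, Pi.smul_apply, _root_.mul_inv_rev, inv_inv]
      refine Finset.sum_congr rfl fun χ _ => ?_
      rw [← isClassFunction_irr χ.1 g⁻¹ h, mul_assoc]) τ
    have hψ := ψ.2
    simp only [P] at hψ
    rw [constituent_iff, classInner_perm, Ne, map_eq_zero, ← hcτ, sum_subgroup_char,
      Nat.cast_eq_zero, Submodule.finrank_eq_zero] at hψ
    obtain ⟨v, hv, hv0⟩ := (Submodule.ne_bot_iff _).1 hψ
    have hs0 : s = 0 := by
      have h1 : (Fintype.card B : ℂ) • (avg (fun g => f g⁻¹) τ) v = 0 := by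
        have h2 : (avg (fun g => f g⁻¹) τ) v = ∑ g : G, f g • τ g v := by
          simp only [avg, LinearMap.sum_apply, LinearMap.smul_apply]
          exact Fintype.sum_equiv (Equiv.inv G) _ _ fun g => rfl
        rw [h2, Nat.cast_smul_eq_nsmul, ← Finset.card_univ, ← Finset.sum_const]
        have h3 : ∀ b : B, ∑ g : G, f g • τ g v = ∑ g : G, f (g * b) • τ g v := by
          intro b
          refine (Fintype.sum_equiv (Equiv.mulRight (b : G)) _ _ fun g => ?_).symm
          have hb : τ (b : G) v = v := hv b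
          simp [hb]
        rw [Finset.sum_congr rfl fun b _ => h3 b, Finset.sum_comm]
        simp [← Finset.sum_smul, hsum]
      rw [hs, LinearMap.smul_apply, smul_smul, Module.End.one_apply, smul_eq_zero] at h1
      rcases h1 with h1 | h1
      · exact (mul_eq_zero.1 h1).resolve_left (Nat.cast_ne_zero.2 Fintype.card_ne_zero)
      · exact absurd h1 hv0
    rw [hs0, zero_mul] at hs'
    have h4 : ∑ g : G, f g⁻¹ * conj (τ.character g) = (Nat.card G : ℂ) * c ψ := by
      rw [hcτ]
      have h5 : ∀ g : G, f g⁻¹ = ∑ χ : {χ // P χ}, c χ * (χ.1 : G → ℂ) g := by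
        intro g
        simp [f, Finset.sum_apply, apply_inv (isCharacter_irr _)]
      simp only [h5, Finset.sum_mul, mul_assoc]
      rw [Finset.sum_comm]
      simp only [← Finset.mul_sum]
      have h6 : ∀ χ : {χ // P χ}, ∑ g : G, (χ.1 : G → ℂ) g * conj ((ψ.1 : G → ℂ) g) =
          (Nat.card G : ℂ) * (if χ = ψ then 1 else 0) := by
        intro χ
        have h7 := classInner_irr χ.1 ψ.1
        rw [Cfsg.classInner] at h7
        rw [show (if χ = ψ then (1 : ℂ) else 0) = if χ.1 = ψ.1 then 1 else 0 by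
          simp [Subtype.ext_iff], ← h7, ← mul_assoc,
          mul_inv_cancel₀ (Nat.cast_ne_zero.2 Nat.card_pos.ne'), one_mul]
      simp [h6, mul_comm]
    rw [h4] at hs'
    exact (mul_eq_zero.1 hs'.symm).resolve_left (Nat.cast_ne_zero.2 Nat.card_pos.ne')
  have hspan : Submodule.span ℂ (Set.range fun χ : {χ // P χ} => F χ.1) = (classFuns G).map (op B) := by
    apply le_antisymm
    · rw [Submodule.span_le]
      rintro _ ⟨χ, rfl⟩
      exact ⟨_, fun g h => congrArg conj (isClassFunction_irr χ.1 g h), rfl⟩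
    · rintro _ ⟨f, hf, rfl⟩
      have hcf : Cfsg.IsClassFunction G (fun g => conj (f g)) := fun g h => congrArg conj (hf g h)
      have h := classFunction_eq_sum hcf
      have hf' : f = ∑ χ : Cfsg.IrrCharacter G,
          conj (Cfsg.classInner (fun g => conj (f g)) χ) • fun g => conj ((χ : G → ℂ) g) := by
        funext g
        have := congrArg conj (congrFun h g)
        simpa [Finset.sum_apply] using this
      rw [hf', map_sum]
      refine Submodule.sum_mem _ fun χ _ => ?_
      rw [map_smul]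
      refine Submodule.smul_mem _ _ ?_
      by_cases hχ : P χ
      · exact Submodule.subset_span ⟨⟨χ, hχ⟩, rfl⟩
      · rw [show op B (fun g => conj ((χ : G → ℂ) g)) = 0 from hzero χ hχ]
        exact zero_mem _
  rw [← hspan, finrank_span_eq_card hind, Nat.card_eq_fintype_card]

end Char

end Cfsg.Agent.Lib.HeckeDeform
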